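import Groth.Agent.H24Adic.NilLift.Torsion

/-!
Descent of solutions of finite linear systems.
-/

set_option autoImplicit false
set_option linter.style.haveILetI false

universe u

open TensorProduct

namespace Groth.Agent.H24Adic.NilLift

theorem tmul_pi_ext {R C M : Type u} [CommRing R] [CommRing C] [Algebra R C] [AddCommGroup M] [Module R M] {n : ℕ}
    (a b : C ⊗[R] (Fin n → M))
    (hab : ∀ j, (LinearMap.proj (φ := fun _ : Fin n => M) j).lTensor C a = (LinearMap.proj (φ := fun _ : Fin n => M) j).lTensor C b) :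
    a = b := by
  apply (TensorProduct.piRight R C C (fun _ : Fin n => M)).injective
  funext j
  have e : ∀ y : C ⊗[R] (Fin n → M), TensorProduct.piRight R C C (fun _ : Fin n => M) y j =
      (LinearMap.proj (φ := fun _ : Fin n => M) j).lTensor C y := fun y => by
    induction y using TensorProduct.induction_on with
    | zero => simp
    | tmul c m => simp
    | add p q hp hq => simp only [map_add, Pi.add_apply, hp, hq]
  rw [e, e, hab]

theorem lTensor_sum_smul_proj {R C M : Type u} [CommRing R] [CommRing C] [Algebra R C] [AddCommGroup M] [Module R M] {n : ℕ}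
    (c : Fin n → R) (y : C ⊗[R] (Fin n → M)) :
    (∑ l, c l • LinearMap.proj (φ := fun _ : Fin n => M) l).lTensor C y =
      ∑ l, c l • (LinearMap.proj (φ := fun _ : Fin n => M) l).lTensor C y := by
  simp only [← LinearMap.coe_lTensorHom, map_sum, map_smul, LinearMap.sum_apply, LinearMap.smul_apply]

/-- A solution over the flat extension of the system `b` can be corrected by the system `c` to a solution
over the base when the obstructions are torsion. -/
theorem IsoMod.solve {A R C : Type u} [CommRing A] [CommRing R] [CommRing C] [Algebra A R] [Algebra R C] [Algebra A C]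
    [IsScalarTower A R C] {I : Ideal A} [IsNoetherianRing A] [Module.Flat R C] (h : IsoMod I (R := R) (C := C))
    {M : Type u} [AddCommGroup M] [Module R M] [Module A M] [IsScalarTower A R M] {d s t : ℕ}
    (b : Fin t → Fin s → R) (c : Fin s → Fin d → R) (hbc : ∀ j i, ∑ l, b j l * c l i = 0) (v : Fin t → M)
    (hv : ∀ a ∈ I, ∃ (e : ℕ) (x : Fin s → M), ∀ j, ∑ l, b j l • x l = a ^ e • v j)
    (hH : ∀ x : Fin s → M, (∀ j, ∑ l, b j l • x l = 0) → ∀ a ∈ I, ∃ (e : ℕ) (w : Fin d → M),
      ∀ l, ∑ i, c l i • w i = a ^ e • x l)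
    (γ : Fin s → C ⊗[R] M) (hγ : ∀ j, ∑ l, b j l • γ l = 1 ⊗ₜ v j) :
    ∃ (x : Fin s → M) (w : Fin d → C ⊗[R] M), (∀ j, ∑ l, b j l • x l = v j) ∧
      ∀ l, γ l + ∑ i, c l i • w i = 1 ⊗ₜ x l := by
  classical
  let Φ : (Fin s → M) →ₗ[R] (Fin t → M) := LinearMap.pi fun j => ∑ l, b j l • LinearMap.proj l
  let D : (Fin d → M) →ₗ[R] (Fin s → M) := LinearMap.pi fun l => ∑ i, c l i • LinearMap.proj i
  have hΦ : ∀ x j, Φ x j = ∑ l, b j l • x l := fun x j => by simp [Φ]
  have hD : ∀ w l, D w l = ∑ i, c l i • w i := fun w l => by simp [D]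
  have hΦD : ∀ w, Φ (D w) = 0 := fun w => funext fun j => by
    rw [hΦ]
    simp only [hD, Finset.smul_sum, smul_smul]
    rw [Finset.sum_comm, Pi.zero_apply]
    exact Finset.sum_eq_zero fun i _ => by rw [← Finset.sum_smul, hbc j i, zero_smul]
  let γ' : C ⊗[R] (Fin s → M) := ∑ l, (LinearMap.single R (fun _ : Fin s => M) l).lTensor C (γ l)
  have hγ' : ∀ l, (LinearMap.proj (φ := fun _ : Fin s => M) l).lTensor C γ' = γ l := fun l => by
    rw [map_sum, Finset.sum_eq_single l]
    · rw [← LinearMap.lTensor_comp_apply, LinearMap.proj_comp_single_same, LinearMap.lTensor_id, LinearMap.id_apply]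
    · intro m _ hm
      rw [← LinearMap.lTensor_comp_apply, LinearMap.proj_comp_single_ne _ _ _ _ hm.symm, LinearMap.lTensor_zero,
        LinearMap.zero_apply]
    · simp
  have hΦγ : Φ.lTensor C γ' = 1 ⊗ₜ v := tmul_pi_ext _ _ fun j => by
    rw [← LinearMap.lTensor_comp_apply, LinearMap.lTensor_tmul, LinearMap.proj_apply,
      show (LinearMap.proj j).comp Φ = ∑ l, b j l • LinearMap.proj l from LinearMap.proj_pi _ _, lTensor_sum_smul_proj]
    simp only [hγ']
    exact hγ j
  obtain ⟨x, w, hx, hw⟩ := h.descend D Φ hΦD v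
    (fun a ha => by
      obtain ⟨e, x, hx⟩ := hv a ha
      exact ⟨e, x, funext fun j => (hΦ x j).trans (hx j)⟩)
    (fun x hx a ha => by
      obtain ⟨e, w, hw⟩ := hH x (fun j => by rw [← hΦ, hx]; rfl) a ha
      exact ⟨e, w, funext fun l => (hD w l).trans (hw l)⟩) γ' hΦγ
  refine ⟨x, fun i => (LinearMap.proj (φ := fun _ : Fin d => M) i).lTensor C w, fun j => by rw [← hΦ, hx], fun l => ?_⟩
  have h1 := congrArg ((LinearMap.proj (φ := fun _ : Fin s => M) l).lTensor C) hw
  rw [map_add, hγ', ← LinearMap.lTensor_comp_apply, LinearMap.lTensor_tmul, LinearMap.proj_apply,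
    show (LinearMap.proj l).comp D = ∑ i, c l i • LinearMap.proj i from LinearMap.proj_pi _ _, lTensor_sum_smul_proj] at h1
  exact h1

end Groth.Agent.H24Adic.NilLift
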