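import Groth.Agent.H24Adic.NilLift.System
import Groth.Agent.H24Adic.NilLift.Solve

/-!
Correction of a lift of a presentation along a square-zero ideal.
-/

set_option autoImplicit false
set_option linter.style.haveILetI false

universe u

open TensorProduct MvPolynomial

namespace Groth.Agent.H24Adic.NilLift

/-- First order Taylor expansion. -/
theorem aeval_add_sq_zero {A S : Type u} [CommRing A] [CommRing S] [Algebra A S] {d : ℕ} (c μ : Fin d → S)
    (hμ : ∀ i j, μ i * μ j = 0) (p : MvPolynomial (Fin d) A) :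
    aeval (fun i => c i + μ i) p = aeval c p + ∑ i, aeval c (pderiv i p) * μ i := by
  classical
  induction p using MvPolynomial.induction_on with
  | C a => simp
  | add p q hp hq => simp only [map_add, hp, hq, add_mul, Finset.sum_add_distrib]; ring
  | mul_X p j hp =>
    have h0 : (∑ i, aeval c (pderiv i p) * μ i) * μ j = 0 := by
      rw [Finset.sum_mul]
      exact Finset.sum_eq_zero fun i _ => by rw [mul_assoc, hμ, mul_zero]
    have h1 : ∑ i, aeval c (pderiv i (p * X j)) * μ i = (∑ i, aeval c (pderiv i p) * μ i) * c j + aeval c p * μ j := by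
      simp only [pderiv_mul, map_add, map_mul, add_mul, Finset.sum_add_distrib, Finset.sum_mul, aeval_X]
      congr 1
      · exact Finset.sum_congr rfl fun i _ => by ring
      · rw [Finset.sum_eq_single j]
        · rw [pderiv_X_self, map_one, mul_one]
        · intro i _ hi
          rw [pderiv_X_of_ne hi.symm, map_zero, mul_zero, zero_mul]
        · simp
    rw [map_mul, map_mul, hp, h1, aeval_X, aeval_X]
    linear_combination h0

variable {A : Type u} [CommRing A]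

/-- The lift of the variables can be corrected so that it is compatible with a solution of the system. -/
theorem exists_corrected [IsNoetherianRing A] (I K : Ideal A) {d s u' : ℕ} (𝔟 : Ideal (MvPolynomial (Fin d) A))
    [Algebra (A ⧸ K) (MvPolynomial (Fin d) A ⧸ 𝔟)] [IsScalarTower A (A ⧸ K) (MvPolynomial (Fin d) A ⧸ 𝔟)]
    (hB : ∀ a ∈ I, Algebra.Etale (A ⧸ K) (Localization.Away (algebraMap A (MvPolynomial (Fin d) A ⧸ 𝔟) a)))
    {S S0 : Type u} [CommRing S] [CommRing S0] [Algebra A S] [Algebra A S0] [Algebra (MvPolynomial (Fin d) A ⧸ 𝔟) S0]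
    [IsScalarTower A (MvPolynomial (Fin d) A ⧸ 𝔟) S0] [Module.Flat (MvPolynomial (Fin d) A ⧸ 𝔟) S0]
    (hiso : IsoMod I (R := MvPolynomial (Fin d) A ⧸ 𝔟) (C := S0)) (mk0 : S →ₐ[A] S0)
    (hsq : ∀ x y, mk0 x = 0 → mk0 y = 0 → x * y = 0) (cX : Fin d → S)
    (hcX : ∀ p, mk0 (aeval cX p) = algebraMap (MvPolynomial (Fin d) A ⧸ 𝔟) S0 (Ideal.Quotient.mk 𝔟 p))
    (Θ : S0 ⊗[MvPolynomial (Fin d) A ⧸ 𝔟] ((MvPolynomial (Fin d) A ⧸ 𝔟) ⊗[A] K) →ₗ[A] S)
    (hΘr : ∀ p z, Θ (Ideal.Quotient.mk 𝔟 p • z) = aeval cX p * Θ z)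
    (hΘ1 : ∀ (p : MvPolynomial (Fin d) A) (n : (MvPolynomial (Fin d) A ⧸ 𝔟) ⊗[A] K),
      Θ ((1 : S0) ⊗ₜ (Ideal.Quotient.mk 𝔟 p • n)) = aeval cX p * Θ ((1 : S0) ⊗ₜ n))
    (hΘκ : ∀ κ : K, Θ ((1 : S0) ⊗ₜ ((1 : MvPolynomial (Fin d) A ⧸ 𝔟) ⊗ₜ κ)) = algebraMap A S κ)
    (hΘ0 : ∀ z, mk0 (Θ z) = 0) (hΘs : ∀ y, mk0 y = 0 → ∃ z, Θ z = y)
    {M : Type u} [AddCommGroup M] [Module (MvPolynomial (Fin d) A ⧸ 𝔟) M] [Module A M]
    [IsScalarTower A (MvPolynomial (Fin d) A ⧸ 𝔟) M]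
    (q0 : (MvPolynomial (Fin d) A ⧸ 𝔟) ⊗[A] K →ₗ[MvPolynomial (Fin d) A ⧸ 𝔟] M) (hq0 : Function.Surjective q0)
    (h1 : ∀ z, Θ z = 0 → q0.lTensor S0 z = 0) (h2 : ∀ z, q0.lTensor S0 z = 0 → Θ z = 0)
    {F : Fin s → MvPolynomial (Fin d) A} (hF : Ideal.span (Set.range F) = 𝔟) {k : Fin u' → K}
    (hk : Submodule.span A (Set.range k) = ⊤) (hk𝔟 : ∀ i, C (k i : A) ∈ 𝔟) :
    ∃ (g : MvPolynomial (Fin d) A →ₐ[A] S) (x : Fin s → M),
      (∀ p, mk0 (g p) = algebraMap (MvPolynomial (Fin d) A ⧸ 𝔟) S0 (Ideal.Quotient.mk 𝔟 p)) ∧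
      (∀ p y, mk0 y = 0 → g p * y = aeval cX p * y) ∧
      Sol 𝔟 F k (fun i => q0 ((1 : MvPolynomial (Fin d) A ⧸ 𝔟) ⊗ₜ[A] k i)) x ∧
      ∀ (q : Fin s → MvPolynomial (Fin d) A) n, q0 n = ∑ l, Ideal.Quotient.mk 𝔟 (q l) • x l →
        g (∑ l, q l * F l) = Θ ((1 : S0) ⊗ₜ n) := by
  classical
  have hFmem : ∀ l, F l ∈ 𝔟 := fun l => hF ▸ Ideal.subset_span ⟨l, rfl⟩
  have hF0 : ∀ l, Ideal.Quotient.mk 𝔟 (F l) = 0 := fun l => Ideal.Quotient.eq_zero_iff_mem.mpr (hFmem l)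
  let Λ : (Fin s → MvPolynomial (Fin d) A) × (Fin u' → MvPolynomial (Fin d) A) →ₗ[MvPolynomial (Fin d) A]
      MvPolynomial (Fin d) A :=
    (Fintype.linearCombination (MvPolynomial (Fin d) A) F) ∘ₗ LinearMap.fst (MvPolynomial (Fin d) A) _ _ -
      (Fintype.linearCombination (MvPolynomial (Fin d) A) fun i => C (k i : A)) ∘ₗ LinearMap.snd (MvPolynomial (Fin d) A) _ _
  have hΛ : ∀ q r, (q, r) ∈ LinearMap.ker Λ ↔ ∑ l, q l * F l = ∑ i, r i * C (k i : A) := fun q r => by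
    simp [Λ, LinearMap.mem_ker, sub_eq_zero, Fintype.linearCombination_apply]
  obtain ⟨t, z, hz⟩ := Submodule.fg_iff_exists_fin_generating_family.mp (IsNoetherian.noetherian (LinearMap.ker Λ))
  have hzr : ∀ j, ∑ l, (z j).1 l * F l = ∑ i, (z j).2 i * C (k i : A) := fun j =>
    (hΛ _ _).mp (hz ▸ Submodule.subset_span ⟨j, rfl⟩)
  let zb : Fin t → (Fin s → MvPolynomial (Fin d) A ⧸ 𝔟) × (Fin u' → MvPolynomial (Fin d) A ⧸ 𝔟) := fun j =>
    (fun l => Ideal.Quotient.mk 𝔟 ((z j).1 l), fun i => Ideal.Quotient.mk 𝔟 ((z j).2 i))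
  have hrel : ∀ w ∈ Submodule.span (MvPolynomial (Fin d) A ⧸ 𝔟) (Set.range zb),
      ∃ (q : Fin s → MvPolynomial (Fin d) A) (r : Fin u' → MvPolynomial (Fin d) A),
        (∑ l, q l * F l = ∑ i, r i * C (k i : A)) ∧
          w = (fun l => Ideal.Quotient.mk 𝔟 (q l), fun i => Ideal.Quotient.mk 𝔟 (r i)) := by
    intro w hw
    refine Submodule.span_induction (p := fun w _ => ∃ (q : Fin s → MvPolynomial (Fin d) A) (r : Fin u' → MvPolynomial (Fin d) A),
      (∑ l, q l * F l = ∑ i, r i * C (k i : A)) ∧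
        w = (fun l => Ideal.Quotient.mk 𝔟 (q l), fun i => Ideal.Quotient.mk 𝔟 (r i))) ?_ ?_ ?_ ?_ hw
    · rintro _ ⟨j, rfl⟩
      exact ⟨(z j).1, (z j).2, hzr j, rfl⟩
    · exact ⟨0, 0, by simp, by ext <;> simp⟩
    · rintro _ _ _ _ ⟨q, r, h, rfl⟩ ⟨q', r', h', rfl⟩
      exact ⟨q + q', r + r', by simp [add_mul, Finset.sum_add_distrib, h, h'], by ext <;> simp⟩
    · rintro b _ _ ⟨q, r, h, rfl⟩
      obtain ⟨p, rfl⟩ := Ideal.Quotient.mk_surjective b
      refine ⟨fun l => p * q l, fun i => p * r i, by simp [mul_assoc, ← Finset.mul_sum, h], ?_⟩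
      ext <;> simp
  have hSol : ∀ (c : Fin u' → M) (x : Fin s → M),
      (∀ j, ∑ l, (zb j).1 l • x l = ∑ i, (zb j).2 i • c i) → Sol 𝔟 F k c x := by
    intro c x hx q r e
    have hmem : (q, r) ∈ Submodule.span (MvPolynomial (Fin d) A) (Set.range z) := hz.symm ▸ (hΛ q r).mpr e
    refine Submodule.span_induction (p := fun w _ =>
      ∑ l, Ideal.Quotient.mk 𝔟 (w.1 l) • x l = ∑ i, Ideal.Quotient.mk 𝔟 (w.2 i) • c i) ?_ ?_ ?_ ?_ hmem
    · rintro _ ⟨j, rfl⟩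
      exact hx j
    · simp only [Prod.fst_zero, Prod.snd_zero, Pi.zero_apply, map_zero]
      exact (Finset.sum_eq_zero fun l _ => zero_smul (MvPolynomial (Fin d) A ⧸ 𝔟) (x l)).trans
        (Finset.sum_eq_zero fun i _ => zero_smul (MvPolynomial (Fin d) A ⧸ 𝔟) (c i)).symm
    · intro a b _ _ ha hb
      simp only [Prod.fst_add, Prod.snd_add, Pi.add_apply, map_add, add_smul, Finset.sum_add_distrib, ha, hb]
    · intro p a _ ha
      simp only [Prod.smul_fst, Prod.smul_snd, Pi.smul_apply, smul_eq_mul, map_mul, ← smul_smul, ← Finset.smul_sum, ha]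
  let can : Fin u' → M := fun i => q0 ((1 : MvPolynomial (Fin d) A ⧸ 𝔟) ⊗ₜ[A] k i)
  choose ζ hζ using fun l => hΘs (aeval cX (F l)) (by rw [hcX, hF0, map_zero])
  have hbc : ∀ j i, ∑ l, (zb j).1 l * Ideal.Quotient.mk 𝔟 (pderiv i (F l)) = 0 := by
    intro j i
    have e1 := congrArg (fun p => Ideal.Quotient.mk 𝔟 (pderiv i p)) (hzr j)
    simp only [map_sum, pderiv_mul, pderiv_C, mul_zero, add_zero, map_add, map_mul, hF0, zero_add,
      Ideal.Quotient.eq_zero_iff_mem.mpr (hk𝔟 _), Finset.sum_const_zero] at e1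
    exact e1
  have hγ : ∀ j, ∑ l, (zb j).1 l • q0.lTensor S0 (ζ l) = (1 : S0) ⊗ₜ ∑ i, (zb j).2 i • can i := by
    intro j
    have h0 : Θ (∑ l, (zb j).1 l • ζ l -
        (1 : S0) ⊗ₜ[MvPolynomial (Fin d) A ⧸ 𝔟] ∑ i, (zb j).2 i • ((1 : MvPolynomial (Fin d) A ⧸ 𝔟) ⊗ₜ[A] k i)) = 0 := by
      have e := congrArg (aeval cX) (hzr j)
      simp only [map_sum, map_mul, aeval_C] at e
      rw [map_sub, map_sum, TensorProduct.tmul_sum, map_sum, sub_eq_zero]
      simp only [zb, hΘ1, hΘr, hζ, hΘκ]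
      exact e
    have h3 := h1 _ h0
    rw [map_sub, sub_eq_zero, map_sum, LinearMap.lTensor_tmul] at h3
    simp only [map_smul] at h3
    rw [h3, map_sum]
    simp only [map_smul, can]
  obtain ⟨x, w, hx, hxw⟩ := hiso.solve (fun j l => (zb j).1 l) (fun l i => Ideal.Quotient.mk 𝔟 (pderiv i (F l))) hbc
    (fun j => ∑ i, (zb j).2 i • can i)
    (fun a ha => by
      haveI := hB a ha
      obtain ⟨e, n, hn⟩ := exists_pow_smul_sol a hF (Submodule.span (MvPolynomial (Fin d) A ⧸ 𝔟) (Set.range zb))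
        (Submodule.fg_span (Set.finite_range zb)) (k := k) hrel
      refine ⟨e, fun l => q0 (n l), fun j => ?_⟩
      have h3 := congrArg q0 (hn (zb j) (Submodule.subset_span ⟨j, rfl⟩))
      simp only [map_sum, map_smul, LinearMap.map_smul_of_tower] at h3
      exact h3)
    (fun x hx a ha => by
      haveI := hB a ha
      exact exists_pow_smul_eq_deriv a hF hk hk𝔟 (hSol (fun _ => 0) x fun j => by
        rw [hx]; exact (Finset.sum_eq_zero fun i _ => smul_zero _).symm))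
    (fun l => q0.lTensor S0 (ζ l)) hγ
  choose n hn using fun l => hq0 (x l)
  choose ω hω using fun i => LinearMap.lTensor_surjective S0 hq0 (w i)
  have hμ : ∀ i j, Θ (ω i) * Θ (ω j) = 0 := fun i j => hsq _ _ (hΘ0 _) (hΘ0 _)
  let g : MvPolynomial (Fin d) A →ₐ[A] S := aeval fun i => cX i + Θ (ω i)
  have htaylor : ∀ p, g p = aeval cX p + ∑ i, aeval cX (pderiv i p) * Θ (ω i) := aeval_add_sq_zero cX _ hμ
  have hgmk : ∀ p, mk0 (g p) = algebraMap (MvPolynomial (Fin d) A ⧸ 𝔟) S0 (Ideal.Quotient.mk 𝔟 p) := fun p => by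
    rw [← hcX, htaylor, map_add, map_sum, add_eq_left]
    exact Finset.sum_eq_zero fun i _ => by rw [map_mul, hΘ0, mul_zero]
  have hgy : ∀ p y, mk0 y = 0 → g p * y = aeval cX p * y := fun p y hy => by
    rw [htaylor, add_mul, add_eq_left, Finset.sum_mul]
    exact Finset.sum_eq_zero fun i _ => by rw [mul_assoc, hsq _ _ (hΘ0 _) hy, mul_zero]
  have hlin : ∀ l, g (F l) = Θ ((1 : S0) ⊗ₜ n l) := fun l => by
    have h3 : q0.lTensor S0 (ζ l + ∑ i, Ideal.Quotient.mk 𝔟 (pderiv i (F l)) • ω i - (1 : S0) ⊗ₜ n l) = 0 := by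
      rw [map_sub, map_add, map_sum, LinearMap.lTensor_tmul, hn, sub_eq_zero]
      simp only [map_smul, hω]
      exact hxw l
    have h4 := h2 _ h3
    rw [map_sub, map_add, map_sum, sub_eq_zero] at h4
    simp only [hΘr, hζ] at h4
    rw [htaylor]
    exact h4
  refine ⟨g, x, hgmk, hgy, hSol _ x hx, fun q m hm => ?_⟩
  have hd : q0 (m - ∑ l, Ideal.Quotient.mk 𝔟 (q l) • n l) = 0 := by
    rw [map_sub, hm, map_sum, sub_eq_zero]
    simp only [map_smul, hn]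
  have h4 := h2 ((1 : S0) ⊗ₜ (m - ∑ l, Ideal.Quotient.mk 𝔟 (q l) • n l)) (by rw [LinearMap.lTensor_tmul, hd, TensorProduct.tmul_zero])
  rw [TensorProduct.tmul_sub, map_sub, sub_eq_zero] at h4
  rw [h4, map_sum, TensorProduct.tmul_sum, map_sum]
  refine Finset.sum_congr rfl fun l _ => ?_
  rw [map_mul, hΘ1, hlin, hgy _ _ (hΘ0 _)]

end Groth.Agent.H24Adic.NilLift
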