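import Mathlib

/-!
Multiplication by a square-zero ideal as a map from the tensor product.
-/

set_option autoImplicit false
set_option linter.style.haveILetI false

universe u

open TensorProduct

namespace Groth.Agent.H24Adic.NilLift

variable {A : Type u} [CommRing A] (K : Ideal A) (C : Type u) [CommRing C] [Algebra A C]

/-- `C ⊗ K → C`, multiplication. -/
noncomputable def mult : C ⊗[A] K →ₗ[A] C :=
  (TensorProduct.rid A C).toLinearMap ∘ₗ (Submodule.subtype K).lTensor C

theorem mult_tmul (c : C) (k : K) : mult K C (c ⊗ₜ k) = c * algebraMap A C k := by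
  simp [mult, Algebra.smul_def, mul_comm]

variable {K C}

theorem mult_rTensor {D : Type u} [CommRing D] [Algebra A D] (f : C →ₐ[A] D) (z : C ⊗[A] K) :
    mult K D (f.toLinearMap.rTensor K z) = f (mult K C z) := by
  induction z using TensorProduct.induction_on with
  | zero => simp
  | tmul c k => rw [LinearMap.rTensor_tmul, mult_tmul, mult_tmul, map_mul, f.commutes]; rfl
  | add a b ha hb => simp only [map_add, ha, hb]

theorem mult_smul (c : C) (z : C ⊗[A] K) : mult K C (c • z) = c * mult K C z := by
  induction z using TensorProduct.induction_on with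
  | zero => simp
  | tmul d k => rw [TensorProduct.smul_tmul', mult_tmul, mult_tmul, smul_eq_mul, mul_assoc]
  | add a b ha hb => simp only [smul_add, map_add, ha, hb, mul_add]

theorem mult_injective [Module.Flat A C] : Function.Injective (mult K C) :=
  (TensorProduct.rid A C).injective.comp (Module.Flat.lTensor_preserves_injective_linearMap _ (Submodule.subtype_injective K))

variable (K C) in
theorem exists_mult_eq (y : C) (hy : y ∈ K.map (algebraMap A C)) : ∃ z : C ⊗[A] K, mult K C z = y := by
  refine Submodule.span_induction (p := fun y _ => ∃ z, mult K C z = y) ?_ ?_ ?_ ?_ hy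
  · rintro _ ⟨k, hk, rfl⟩
    exact ⟨1 ⊗ₜ ⟨k, hk⟩, by rw [mult_tmul, one_mul]⟩
  · exact ⟨0, map_zero _⟩
  · rintro a b _ _ ⟨z, rfl⟩ ⟨w, rfl⟩
    exact ⟨z + w, map_add _ _ _⟩
  · rintro c a _ ⟨z, rfl⟩
    exact ⟨c • z, mult_smul c z⟩

/-- The kernel of multiplication is torsion for algebras flat after inverting the element. -/
theorem exists_pow_smul_eq_zero (a : A) [Module.Flat A (Localization.Away (algebraMap A C a))] (z : C ⊗[A] K)
    (hz : mult K C z = 0) : ∃ k : ℕ, a ^ k • z = 0 := by
  let Ca := Localization.Away (algebraMap A C a)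
  haveI : IsLocalization (Algebra.algebraMapSubmonoid C (Submonoid.powers a)) Ca := by
    rw [show Algebra.algebraMapSubmonoid C (Submonoid.powers a) = Submonoid.powers (algebraMap A C a) by
      rw [Algebra.algebraMapSubmonoid, Submonoid.map_powers]]
    infer_instance
  haveI : IsLocalizedModule (Submonoid.powers a) (IsScalarTower.toAlgHom A C Ca).toLinearMap :=
    isLocalizedModule_iff_isLocalization.mpr inferInstance
  have h0 : (IsScalarTower.toAlgHom A C Ca).toLinearMap.rTensor K z = 0 :=
    mult_injective (K := K) (C := Ca) (by rw [mult_rTensor, hz, map_zero, map_zero])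
  haveI : IsLocalizedModule (Submonoid.powers a) ((IsScalarTower.toAlgHom A C Ca).toLinearMap.rTensor K) :=
    IsLocalizedModule.rTensor (R := A) (A := A) (S := Submonoid.powers a) (IsScalarTower.toAlgHom A C Ca).toLinearMap
  obtain ⟨⟨_, k, rfl⟩, hk⟩ := (IsLocalizedModule.eq_zero_iff (Submonoid.powers a) _).mp h0
  exact ⟨k, hk⟩

/-- Quotients by the square-zero ideal do not change the tensor product with it. -/
theorem rTensor_injective (hK : ∀ x ∈ K, ∀ y ∈ K, x * y = 0) {D : Type u} [CommRing D] [Algebra A D] (f : C →ₐ[A] D)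
    (hf : RingHom.ker f.toRingHom ≤ K.map (algebraMap A C)) (hs : Function.Surjective f) :
    Function.Injective (f.toLinearMap.rTensor K) := by
  have hkill : ∀ (y : C) (_ : y ∈ K.map (algebraMap A C)) (c : C) (k : K), (c * y) ⊗ₜ[A] k = 0 := by
    intro y hy
    refine Submodule.span_induction (p := fun y _ => ∀ (c : C) (k : K), (c * y) ⊗ₜ[A] k = 0) ?_ ?_ ?_ ?_ hy
    · rintro _ ⟨k', hk', rfl⟩ c k
      rw [mul_comm, ← Algebra.smul_def, TensorProduct.smul_tmul,
        show k' • k = 0 from Subtype.ext (hK k' hk' k k.2), TensorProduct.tmul_zero]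
    · intro c k; rw [mul_zero, TensorProduct.zero_tmul]
    · intro a b _ _ ha hb c k; rw [mul_add, TensorProduct.add_tmul, ha, hb, add_zero]
    · intro d a _ ha c k; rw [smul_eq_mul, ← mul_assoc]; exact ha _ _
  refine (injective_iff_map_eq_zero _).mpr fun z hz => ?_
  obtain ⟨w, rfl⟩ := ((rTensor_exact K (f := (LinearMap.ker f.toLinearMap).subtype) (g := f.toLinearMap)
    (LinearMap.exact_subtype_ker_map _) hs) z).mp hz
  clear hz
  induction w using TensorProduct.induction_on with
  | zero => exact map_zero _
  | tmul y k =>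
    rw [LinearMap.rTensor_tmul]
    have h := hkill y.1 (hf y.2) 1 k
    rwa [one_mul] at h
  | add a b ha hb => rw [map_add, ha, hb, add_zero]

end Groth.Agent.H24Adic.NilLift
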