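import Groth.Agent.H24Adic.NilLift.Torsion
import Groth.Agent.H24Adic.NilLift.Mult
import Groth.Agent.H02CA.EtaleLift

/-!
Etaleness of square-zero lifts from torsion conditions.
-/

set_option autoImplicit false
set_option linter.style.haveILetI false

universe u

open TensorProduct

namespace Groth.Agent.H24Adic.NilLift

variable {A : Type u} [CommRing A]

theorem baseChange_subtype_injective {K : Ideal A} {C : Type u} [CommRing C] [Algebra A C]
    (h : Function.Injective (mult K C)) (K' : Ideal A) (e : K' = K) :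
    Function.Injective ((Submodule.subtype K').baseChange C) := by
  subst e
  intro x y hxy
  exact h (congrArg (TensorProduct.rid A C) hxy)

theorem map_sq_eq_bot {K : Ideal A} (hK : ∀ x ∈ K, ∀ y ∈ K, x * y = 0) (T : Type u) [CommRing T] [Algebra A T] :
    K.map (algebraMap A T) ^ 2 = ⊥ := by
  rw [sq, ← Ideal.map_mul, show K * K = ⊥ from eq_bot_iff.mpr (Ideal.mul_le.mpr fun a ha b hb => hK a ha b hb), Ideal.map_bot]

variable {I K : Ideal A} {B R S S0 : Type u} [CommRing B] [CommRing R] [CommRing S] [CommRing S0] [Algebra A B]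
  [Algebra A R] [Algebra A S] [Algebra A S0] [Algebra R S0] [IsScalarTower A R S0]

/-- The lift is etale over the lifted base. -/
theorem etale_over [IsNoetherianRing A] (hK : ∀ x ∈ K, ∀ y ∈ K, x * y = 0) (β : B →ₐ[A] R) (hβ : Function.Surjective β)
    (hkerβ : RingHom.ker β.toRingHom = K.map (algebraMap A B)) (θ : B →ₐ[A] S) (mk0 : S →ₐ[A] S0)
    (hmk : Function.Surjective mk0) (hkmk : RingHom.ker mk0.toRingHom = K.map (algebraMap A S))
    (hcomm : ∀ b, algebraMap R S0 (β b) = mk0 (θ b)) [Algebra.Etale R S0] (hiso : IsoMod I (R := R) (C := S0))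
    (hflat : ∀ a ∈ I, Module.Flat A (Localization.Away (algebraMap A S a)))
    (H : ∀ y : B ⊗[A] K, Tors I y → mult K S (θ.toLinearMap.rTensor K y) = 0 → mult K B y = 0) :
    (letI := θ.toRingHom.toAlgebra; Algebra.Etale B S) := by
  letI : Algebra B S := θ.toRingHom.toAlgebra
  letI : Algebra B R := β.toRingHom.toAlgebra
  letI : Algebra S S0 := mk0.toRingHom.toAlgebra
  letI : Algebra B S0 := (mk0.toRingHom.comp θ.toRingHom).toAlgebra
  haveI : IsScalarTower A B S := IsScalarTower.of_algebraMap_eq fun y => (θ.commutes y).symm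
  haveI : IsScalarTower B S S0 := IsScalarTower.of_algebraMap_eq fun b => rfl
  haveI : IsScalarTower B R S0 := IsScalarTower.of_algebraMap_eq fun b => (hcomm b).symm
  have hJI : RingHom.ker (algebraMap S S0) = (RingHom.ker (algebraMap B R)).map (algebraMap B S) := by
    show RingHom.ker mk0.toRingHom = (RingHom.ker β.toRingHom).map (algebraMap B S)
    rw [hkerβ, hkmk, Ideal.map_map, ← IsScalarTower.algebraMap_eq]
  refine H02CA.EtaleLift.etale (A' := B) (A := R) (B' := S) (B := S0) hβ
    (by show RingHom.ker β.toRingHom ^ 2 = ⊥; rw [hkerβ]; exact map_sq_eq_bot hK B) hmk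
    (by show RingHom.ker mk0.toRingHom ^ 2 = ⊥; rw [hkmk]; exact map_sq_eq_bot hK S) hJI ?_
  let JB : Ideal B := RingHom.ker (algebraMap B R)
  have hJB : JB = K.map (algebraMap A B) := hkerβ
  let ξ : S ⊗[A] K →ₗ[A] S ⊗[B] JB :=
    TensorProduct.lift (LinearMap.mk₂ A
      (fun c κ => c ⊗ₜ[B] (⟨algebraMap A B κ, hJB ▸ Ideal.mem_map_of_mem _ κ.2⟩ : JB))
      (fun c c' κ => TensorProduct.add_tmul _ _ _) (fun a c κ => by rw [TensorProduct.smul_tmul'])
      (fun c κ κ' => by
        rw [← TensorProduct.tmul_add]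
        congr 1
        exact Subtype.ext (map_add _ _ _))
      (fun a c κ => by
        rw [← TensorProduct.tmul_smul]
        congr 1
        exact Subtype.ext (by simp [Algebra.smul_def])))
  have hξ : Function.Surjective ξ := fun y => by
    induction y using TensorProduct.induction_on with
    | zero => exact ⟨0, map_zero _⟩
    | add p q hp hq =>
      obtain ⟨a, rfl⟩ := hp
      obtain ⟨b, rfl⟩ := hq
      exact ⟨a + b, map_add _ _ _⟩
    | tmul c y =>
      obtain ⟨y, hy⟩ := y
      have hy' : y ∈ K.map (algebraMap A B) := hJB ▸ hy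
      suffices ∀ y (hy : y ∈ K.map (algebraMap A B)) (c : S), ∃ e, ξ e = c ⊗ₜ[B] (⟨y, hJB ▸ hy⟩ : JB) from this y hy' c
      intro y hy
      refine Submodule.span_induction (p := fun y hy => ∀ c : S, ∃ e, ξ e = c ⊗ₜ[B] (⟨y, hJB ▸ hy⟩ : JB)) ?_ ?_ ?_ ?_ hy
      · rintro _ ⟨κ, hκ, rfl⟩ c
        exact ⟨c ⊗ₜ ⟨κ, hκ⟩, rfl⟩
      · exact fun c => ⟨0, (map_zero _).trans (TensorProduct.tmul_zero _ _).symm⟩
      · intro p q _ _ hp hq c
        obtain ⟨a, ha⟩ := hp c
        obtain ⟨b, hb⟩ := hq c
        exact ⟨a + b, by rw [map_add, ha, hb, ← TensorProduct.tmul_add]; rfl⟩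
      · intro b p _ hp c
        obtain ⟨a, ha⟩ := hp (b • c)
        exact ⟨a, by rw [ha, TensorProduct.smul_tmul]; rfl⟩
  have hcomp : ∀ y, (TensorProduct.rid B S) (((Submodule.subtype JB).baseChange S) (ξ y)) = mult K S y := fun y => by
    induction y using TensorProduct.induction_on with
    | zero => simp
    | tmul c κ =>
      show (algebraMap A B (κ : A)) • c = mult K S (c ⊗ₜ κ)
      rw [mult_tmul, Algebra.smul_def, ← IsScalarTower.algebraMap_apply, mul_comm]
    | add p q hp hq => simp only [map_add, hp, hq]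
  have hξθ : ∀ y0 : B ⊗[A] K, ξ (θ.toLinearMap.rTensor K y0) =
      (1 : S) ⊗ₜ[B] (⟨mult K B y0, hJB ▸ (by
        induction y0 using TensorProduct.induction_on with
        | zero => rw [map_zero]; exact zero_mem _
        | tmul b κ => rw [mult_tmul]; exact Ideal.mul_mem_left _ _ (Ideal.mem_map_of_mem _ κ.2)
        | add p q hp hq => rw [map_add]; exact add_mem hp hq)⟩ : JB) := fun y0 => by
    induction y0 using TensorProduct.induction_on with
    | zero =>
      simp only [map_zero]
      exact (TensorProduct.tmul_zero _ _).symm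
    | tmul b κ =>
      show (θ b) ⊗ₜ[B] (⟨algebraMap A B κ, _⟩ : JB) = _
      rw [show θ b = b • (1 : S) by rw [Algebra.smul_def, mul_one]; rfl, TensorProduct.smul_tmul]
      congr 1
      exact Subtype.ext (mult_tmul (K := K) (C := B) b κ).symm
    | add p q hp hq =>
      rw [map_add, map_add, hp, hq, ← TensorProduct.tmul_add]
      congr 1
      exact Subtype.ext (map_add (mult K B) p q).symm
  refine (injective_iff_map_eq_zero _).mpr fun y hy => ?_
  obtain ⟨y, rfl⟩ := hξ y
  have hy0 : mult K S y = 0 := by rw [← hcomp, hy, map_zero]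
  have hyt : Tors I y := fun a ha => by
    haveI := hflat a ha
    exact exists_pow_smul_eq_zero a y hy0
  let ι : S ⊗[A] K →ₗ[A] S0 ⊗[A] K := mk0.toLinearMap.rTensor K
  let J : S0 ⊗[R] (R ⊗[A] K) ≃ₗ[A] S0 ⊗[A] K := (AlgebraTensorModule.cancelBaseChange A R S0 S0 K).restrictScalars A
  obtain ⟨m, hm, hme⟩ := hiso.exists_tors (z := J.symm (ι y)) ((hyt.map I ι).map I J.symm.toLinearMap)
  obtain ⟨y0, hy0m⟩ := LinearMap.rTensor_surjective (↥K) (g := β.toLinearMap) hβ m
  have hβinj := rTensor_injective hK β (le_of_eq hkerβ) hβ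
  have hty0 : Tors I y0 := fun a ha => by
    obtain ⟨k, hk⟩ := hm a ha
    exact ⟨k, hβinj (by rw [map_smul, hy0m, hk, map_zero])⟩
  have hθy : θ.toLinearMap.rTensor K y0 = y := by
    refine rTensor_injective hK mk0 (le_of_eq hkmk) hmk ?_
    have h1 : ι y = J ((1 : S0) ⊗ₜ m) := by rw [← hme, LinearEquiv.apply_symm_apply]
    rw [show mk0.toLinearMap.rTensor K y = ι y from rfl, h1, ← hy0m]
    clear hy0m hty0 h1
    induction y0 using TensorProduct.induction_on with
    | zero => simp
    | tmul b κ =>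
      show mk0 (θ b) ⊗ₜ[A] κ = (AlgebraTensorModule.cancelBaseChange A R S0 S0 K) ((1 : S0) ⊗ₜ (β b ⊗ₜ κ))
      rw [AlgebraTensorModule.cancelBaseChange_tmul, ← hcomm, Algebra.smul_def, mul_one]
    | add p q hp hq => simp only [map_add, TensorProduct.tmul_add, hp, hq]
  rw [← hθy, hξθ]
  have hz := H y0 hty0 (by rw [hθy, hy0])
  refine (congrArg ((1 : S) ⊗ₜ[B] ·) (Subtype.ext hz : (_ : JB) = 0)).trans (TensorProduct.tmul_zero _ _)

/-- The lift is etale over the base away from the ideal. -/
theorem etale_away [Algebra (A ⧸ K) R] [IsScalarTower A (A ⧸ K) R] (hK : ∀ x ∈ K, ∀ y ∈ K, x * y = 0) (β : B →ₐ[A] R)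
    (hβ : Function.Surjective β) (hkerβ : RingHom.ker β.toRingHom = K.map (algebraMap A B)) (a : A) (ha : a ∈ I)
    [Algebra.Etale (A ⧸ K) (Localization.Away (algebraMap A R a))]
    (H : ∀ y : B ⊗[A] K, mult K B y = 0 → Tors I y) : Algebra.Etale A (Localization.Away (algebraMap A B a)) := by
  let Ba := Localization.Away (algebraMap A B a)
  let Ra := Localization.Away (algebraMap A R a)
  let βL : B →ₐ[A] Ra := (IsScalarTower.toAlgHom A R Ra).comp β
  have hu : IsUnit (βL (algebraMap A B a)) := by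
    rw [βL.commutes, IsScalarTower.algebraMap_apply A R Ra]
    exact IsLocalization.Away.algebraMap_isUnit _
  let βa : Ba →+* Ra := IsLocalization.Away.lift (algebraMap A B a) (g := βL.toRingHom) hu
  have hβa : ∀ b, βa (algebraMap B Ba b) = algebraMap R Ra (β b) := fun b => IsLocalization.Away.lift_eq _ _ b
  letI : Algebra Ba Ra := βa.toAlgebra
  haveI : IsScalarTower A Ba Ra := IsScalarTower.of_algebraMap_eq fun y => by
    rw [RingHom.algebraMap_toAlgebra, IsScalarTower.algebraMap_apply A B Ba, hβa, β.commutes, ← IsScalarTower.algebraMap_apply]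
  have hsurj : Function.Surjective βa := fun y => by
    obtain ⟨r, ⟨_, e, rfl⟩, rfl⟩ := IsLocalization.exists_mk'_eq (Submonoid.powers (algebraMap A R a)) y
    obtain ⟨b, rfl⟩ := hβ r
    refine ⟨IsLocalization.mk' Ba b (⟨algebraMap A B a ^ e, e, rfl⟩ : Submonoid.powers (algebraMap A B a)), ?_⟩
    rw [eq_comm, IsLocalization.mk'_eq_iff_eq_mul]
    have h := congrArg βa (IsLocalization.mk'_spec Ba b (⟨_, e, rfl⟩ : Submonoid.powers (algebraMap A B a)))
    rw [map_mul, hβa, hβa, map_pow, β.commutes] at h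
    exact h.symm
  have hkerBa : RingHom.ker (algebraMap Ba Ra) = K.map (algebraMap A Ba) := by
    refine le_antisymm (fun y hy => ?_) (Ideal.map_le_iff_le_comap.mpr fun κ hκ => ?_)
    · obtain ⟨b, ⟨_, e, rfl⟩, rfl⟩ := IsLocalization.exists_mk'_eq (Submonoid.powers (algebraMap A B a)) y
      have h1 : algebraMap R Ra (β b) = 0 := by
        rw [← hβa, ← IsLocalization.mk'_spec Ba b (⟨_, e, rfl⟩ : Submonoid.powers (algebraMap A B a)), map_mul,
          show βa (IsLocalization.mk' Ba b (⟨_, e, rfl⟩ : Submonoid.powers (algebraMap A B a))) = 0 from hy, zero_mul]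
      obtain ⟨⟨_, m, rfl⟩, hm⟩ := (IsLocalization.map_eq_zero_iff (Submonoid.powers (algebraMap A R a)) Ra _).mp h1
      have h2 : algebraMap A B a ^ m * b ∈ RingHom.ker β.toRingHom := by
        show β (algebraMap A B a ^ m * b) = 0
        rw [map_mul, map_pow, β.commutes]
        exact hm
      rw [hkerβ] at h2
      rw [IsScalarTower.algebraMap_eq A B Ba, ← Ideal.map_map, IsLocalization.mk'_mem_map_algebraMap_iff]
      exact ⟨_, ⟨m, rfl⟩, h2⟩
    · show algebraMap Ba Ra (algebraMap A Ba κ) = 0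
      rw [← IsScalarTower.algebraMap_apply, IsScalarTower.algebraMap_apply A (A ⧸ K) Ra, Ideal.Quotient.algebraMap_eq,
        Ideal.Quotient.eq_zero_iff_mem.mpr hκ, map_zero]
  refine H02CA.EtaleLift.etale (A' := A) (A := A ⧸ K) (B' := Ba) (B := Ra) Ideal.Quotient.mk_surjective ?_ hsurj ?_ ?_ ?_
  · rw [show RingHom.ker (algebraMap A (A ⧸ K)) = K from Ideal.mk_ker, sq]
    exact eq_bot_iff.mpr (Ideal.mul_le.mpr fun p hp q hq => Ideal.mem_bot.mpr (hK p hp q hq))
  · rw [hkerBa]; exact map_sq_eq_bot hK Ba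
  · rw [hkerBa, show RingHom.ker (algebraMap A (A ⧸ K)) = K from Ideal.mk_ker]
  · refine baseChange_subtype_injective ((injective_iff_map_eq_zero _).mpr fun y hy => ?_) _ Ideal.mk_ker
    haveI : IsLocalization (Algebra.algebraMapSubmonoid B (Submonoid.powers a)) Ba := by
      rw [show Algebra.algebraMapSubmonoid B (Submonoid.powers a) = Submonoid.powers (algebraMap A B a) by
        rw [Algebra.algebraMapSubmonoid, Submonoid.map_powers]]
      infer_instance
    let jB : B →ₐ[A] Ba := IsScalarTower.toAlgHom A B Ba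
    haveI : IsLocalizedModule (Submonoid.powers a) jB.toLinearMap := isLocalizedModule_iff_isLocalization.mpr inferInstance
    haveI : IsLocalizedModule (Submonoid.powers a) (jB.toLinearMap.rTensor K) :=
      IsLocalizedModule.rTensor (R := A) (A := A) (S := Submonoid.powers a) jB.toLinearMap
    obtain ⟨⟨y0, ⟨_, e, rfl⟩⟩, hy0⟩ := IsLocalizedModule.surj (Submonoid.powers a) (jB.toLinearMap.rTensor K) y
    have h1 : algebraMap B Ba (mult K B y0) = 0 := by
      show jB (mult K B y0) = 0
      rw [← mult_rTensor, ← hy0]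
      show mult K Ba (a ^ e • y) = 0
      rw [map_smul, hy, smul_zero]
    obtain ⟨⟨_, m, rfl⟩, hm⟩ := (IsLocalization.map_eq_zero_iff (Submonoid.powers (algebraMap A B a)) Ba _).mp h1
    have hy1 : mult K B (a ^ m • y0) = 0 := by
      rw [map_smul, Algebra.smul_def, map_pow]
      exact hm
    obtain ⟨j, hj⟩ := H _ hy1 a ha
    have h6 : a ^ (j + m + e) • y = 0 := by
      rw [pow_add, mul_smul, show a ^ e • y = jB.toLinearMap.rTensor K y0 from hy0, ← map_smul, pow_add, mul_smul, hj, map_zero]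
    exact (IsLocalizedModule.smul_inj (jB.toLinearMap.rTensor K) (⟨_, j + m + e, rfl⟩ : Submonoid.powers a) y 0).mp
      (by rw [smul_zero]; exact h6)

end Groth.Agent.H24Adic.NilLift
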