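import Groth.Agent.H24Adic.NilLift.Reduce

/-!
Lifting along a nilpotent ideal algebras with a given etale neighbourhood of an ideal.
-/

set_option autoImplicit false
set_option linter.style.haveILetI false

universe u

open TensorProduct

namespace Groth.Agent.H24Adic.NilLift

/-- Algebras which are etale outside the ideal, with an etale neighbourhood, lift along nilpotent thickenings. -/
theorem exists_lift (m : ℕ) : ∀ (A : Type u) [CommRing A] [IsNoetherianRing A] (I J : Ideal A), J ^ (m + 1) = ⊥ →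
    ∀ (C C0 B0 R : Type u) [CommRing C] [CommRing C0] [CommRing B0] [CommRing R] [Algebra A C] [Algebra A C0]
      [Algebra A B0] [Algebra A R] [Algebra R B0] [IsScalarTower A R B0] [Algebra.FiniteType A B0] [Algebra B0 C0]
      [IsScalarTower A B0 C0] [Algebra.Etale B0 C0] (q : C →ₐ[A] C0), Function.Surjective q →
      RingHom.ker q.toRingHom = J.map (algebraMap A C) → Function.Surjective (algebraMap A R) →
      RingHom.ker (algebraMap A R) = J → (∀ a ∈ I, Algebra.Etale A (Localization.Away (algebraMap A C a))) →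
      (∀ a ∈ I, Algebra.Etale R (Localization.Away (algebraMap A B0 a))) → IsoMod I (R := B0) (C := C0) →
      ∃ (B : Type u) (_ : CommRing B) (_ : Algebra A B) (β : B →ₐ[A] B0) (θ : B →ₐ[A] C),
        Function.Surjective β ∧ RingHom.ker β.toRingHom = J.map (algebraMap A B) ∧
        (letI := θ.toRingHom.toAlgebra; Algebra.Etale B C) ∧
        (∀ a ∈ I, Algebra.Etale A (Localization.Away (algebraMap A B a))) ∧ Algebra.FiniteType A B ∧
        ∀ b, algebraMap B0 C0 (β b) = q (θ b) := by
  induction m with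
  | zero =>
    intro A _ _ I J hJ C C0 B0 R _ _ _ _ _ _ _ _ _ _ _ _ _ _ q hq hkerq hR hkerR hC hB0 hiso
    rw [zero_add, pow_one] at hJ
    subst hJ
    have hqinj : Function.Injective q :=
      (RingHom.injective_iff_ker_eq_bot q.toRingHom).mpr (by rw [hkerq, Ideal.map_bot])
    let qe : C ≃ₐ[A] C0 := AlgEquiv.ofBijective q ⟨hqinj, hq⟩
    let θ : B0 →ₐ[A] C := qe.symm.toAlgHom.comp (IsScalarTower.toAlgHom A B0 C0)
    refine ⟨B0, inferInstance, inferInstance, AlgHom.id A B0, θ, Function.surjective_id, ?_, ?_, fun a ha => ?_,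
      inferInstance, fun b => (qe.apply_symm_apply (algebraMap B0 C0 b)).symm⟩
    · rw [Ideal.map_bot]
      exact (RingHom.injective_iff_ker_eq_bot _).mp Function.injective_id
    · letI : Algebra B0 C := θ.toRingHom.toAlgebra
      let e : C0 ≃ₐ[B0] C := { qe.symm.toRingEquiv with commutes' := fun _ => rfl }
      exact Algebra.Etale.of_equiv e
    · haveI := hB0 a ha
      haveI : Algebra.Etale A R := Algebra.Etale.of_equiv (AlgEquiv.ofBijective (Algebra.ofId A R)
        ⟨(RingHom.injective_iff_ker_eq_bot _).mpr hkerR, hR⟩)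
      exact Algebra.Etale.comp A R _
  | succ m ih =>
    intro A _ _ I J hJ C C0 B0 R _ _ _ _ _ _ _ _ _ _ _ _ _ _ q hq hkerq hR hkerR hC hB0 hiso
    let K : Ideal A := J ^ (m + 1)
    have hKJ : K ≤ J := Ideal.pow_le_self (Nat.succ_ne_zero m)
    have hK : ∀ x ∈ K, ∀ y ∈ K, x * y = 0 := fun x hx y hy => by
      have h2 : K * K ≤ J ^ (m + 1 + 1) := by
        rw [← pow_add]
        exact Ideal.pow_le_pow_right (by omega)
      exact Ideal.mem_bot.mp (hJ ▸ h2 (Ideal.mul_mem_mul hx hy))
    have hJ' : (J.map (Ideal.Quotient.mk K)) ^ (m + 1) = ⊥ := by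
      rw [← Ideal.map_pow, Ideal.map_quotient_self]
    letI : Algebra (A ⧸ K) R := (Ideal.Quotient.lift K (algebraMap A R) (fun x hx => by
      rw [← RingHom.mem_ker, hkerR]; exact hKJ hx)).toAlgebra
    haveI : IsScalarTower A (A ⧸ K) R := IsScalarTower.of_algebraMap_eq fun _ => rfl
    letI : Algebra (A ⧸ K) B0 := ((algebraMap R B0).comp (algebraMap (A ⧸ K) R)).toAlgebra
    haveI : IsScalarTower (A ⧸ K) R B0 := IsScalarTower.of_algebraMap_eq fun _ => rfl
    haveI : IsScalarTower A (A ⧸ K) B0 := IsScalarTower.of_algebraMap_eq fun a => by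
      show _ = algebraMap R B0 (algebraMap (A ⧸ K) R (algebraMap A (A ⧸ K) a))
      rw [← IsScalarTower.algebraMap_apply A (A ⧸ K) R, ← IsScalarTower.algebraMap_apply A R B0]
    letI : Algebra (A ⧸ K) C0 := ((algebraMap B0 C0).comp (algebraMap (A ⧸ K) B0)).toAlgebra
    haveI : IsScalarTower (A ⧸ K) B0 C0 := IsScalarTower.of_algebraMap_eq fun _ => rfl
    haveI : IsScalarTower A (A ⧸ K) C0 := IsScalarTower.of_algebraMap_eq fun a => by
      show _ = algebraMap B0 C0 (algebraMap (A ⧸ K) B0 (algebraMap A (A ⧸ K) a))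
      rw [← IsScalarTower.algebraMap_apply A (A ⧸ K) B0, ← IsScalarTower.algebraMap_apply A B0 C0]
    let KC : Ideal C := K.map (algebraMap A C)
    letI : Algebra (A ⧸ K) (C ⧸ KC) := (Ideal.quotientMap KC (algebraMap A C) Ideal.le_comap_map).toAlgebra
    haveI : IsScalarTower A (A ⧸ K) (C ⧸ KC) := IsScalarTower.of_algebraMap_eq (R := A) (S := A ⧸ K) (A := C ⧸ KC) fun _ => rfl
    let qC : C →ₐ[A] C ⧸ KC := Ideal.Quotient.mkₐ A KC
    have hkerqC : RingHom.ker qC.toRingHom = KC := Ideal.mk_ker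
    have hqKC : ∀ x ∈ KC, q x = 0 := fun x hx => by
      have h1 : x ∈ RingHom.ker q.toRingHom := hkerq.symm ▸ Ideal.map_mono hKJ hx
      exact h1
    let q' : (C ⧸ KC) →ₐ[A ⧸ K] C0 :=
      { toRingHom := Ideal.Quotient.lift KC q.toRingHom hqKC
        commutes' := fun x => by
          obtain ⟨a, rfl⟩ := Ideal.Quotient.mk_surjective x
          show q (algebraMap A C a) = algebraMap (A ⧸ K) C0 (algebraMap A (A ⧸ K) a)
          rw [q.commutes, ← IsScalarTower.algebraMap_apply] }
    have hkerq' : RingHom.ker q'.toRingHom = (J.map (Ideal.Quotient.mk K)).map (algebraMap (A ⧸ K) (C ⧸ KC)) := by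
      show RingHom.ker (Ideal.Quotient.lift KC q.toRingHom hqKC) = _
      rw [Ideal.ker_quotient_lift, hkerq, Ideal.map_map, Ideal.map_map]
      rfl
    have hA' : ∀ a : A ⧸ K, a ∈ I.map (Ideal.Quotient.mk K) → ∃ b ∈ I, Ideal.Quotient.mk K b = a := fun a ha =>
      (Ideal.mem_map_iff_of_surjective _ Ideal.Quotient.mk_surjective).mp ha
    haveI : Algebra.FiniteType (A ⧸ K) B0 := Algebra.FiniteType.of_restrictScalars_finiteType A (A ⧸ K) B0
    obtain ⟨B', _, _, β', θ', hβ', hkerβ', hθ', haway', hft', hcomm'⟩ := ih (A ⧸ K) (I.map (Ideal.Quotient.mk K))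
      (J.map (Ideal.Quotient.mk K)) hJ' (C ⧸ KC) C0 B0 R q'
      (fun y => by obtain ⟨c, rfl⟩ := hq y; exact ⟨Ideal.Quotient.mk KC c, rfl⟩) hkerq'
      (fun y => by obtain ⟨a, rfl⟩ := hR y; exact ⟨Ideal.Quotient.mk K a, rfl⟩)
      (by
        show RingHom.ker (Ideal.Quotient.lift K (algebraMap A R) _) = _
        rw [Ideal.ker_quotient_lift, hkerR])
      (fun a ha => by
        obtain ⟨b, hb, rfl⟩ := hA' a ha
        haveI := hC b hb
        exact etale_away_quotient (A := A) (R := A ⧸ K) Ideal.Quotient.mk_surjective qC Ideal.Quotient.mk_surjective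
          (by rw [hkerqC, Ideal.Quotient.algebraMap_eq, Ideal.mk_ker]) (algebraMap A C b))
      (fun a ha => by
        obtain ⟨b, hb, rfl⟩ := hA' a ha
        have h1 := hB0 b hb
        rwa [IsScalarTower.algebraMap_apply A (A ⧸ K) B0] at h1)
      hiso.map_base
    letI : Algebra A B' := ((algebraMap (A ⧸ K) B').comp (Ideal.Quotient.mk K)).toAlgebra
    haveI : IsScalarTower A (A ⧸ K) B' := IsScalarTower.of_algebraMap_eq fun _ => rfl
    letI : Algebra B' (C ⧸ KC) := θ'.toRingHom.toAlgebra
    haveI : IsScalarTower A B' (C ⧸ KC) := IsScalarTower.of_algebraMap_eq (R := A) (S := B') (A := C ⧸ KC) fun a =>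
      (θ'.commutes (Ideal.Quotient.mk K a)).symm
    haveI : Algebra.Etale B' (C ⧸ KC) := hθ'
    haveI : Algebra.FiniteType A (A ⧸ K) := Algebra.FiniteType.of_surjective (Ideal.Quotient.mkₐ A K) Ideal.Quotient.mk_surjective
    haveI : Algebra.FiniteType (A ⧸ K) B' := hft'
    haveI : Algebra.FiniteType A B' := Algebra.FiniteType.trans (S := A ⧸ K) inferInstance inferInstance
    have hkerβA : RingHom.ker (β'.restrictScalars A).toRingHom = J.map (algebraMap A B') := by
      show RingHom.ker β'.toRingHom = _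
      rw [hkerβ', Ideal.map_map]
      rfl
    have hiso' : IsoMod I (R := B') (C := C ⧸ KC) := IsoMod.of_nilpotent J ⟨m + 1 + 1, hJ⟩ (β'.restrictScalars A) hβ' hkerβA
      (q'.restrictScalars A) (fun y => by obtain ⟨c, rfl⟩ := hq y; exact ⟨Ideal.Quotient.mk KC c, rfl⟩)
      (by
        show RingHom.ker q'.toRingHom = _
        rw [hkerq', Ideal.map_map]
        rfl)
      hcomm' hiso
    obtain ⟨B, _, _, β, θ, hβ, hkerβ, hθ, haway, hft, hcomm⟩ := exists_lift_step' I K hK (B' := B')
      (fun a ha => haway' _ (Ideal.mem_map_of_mem _ ha)) hC qC Ideal.Quotient.mk_surjective hkerqC hiso'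
    refine ⟨B, inferInstance, inferInstance, (β'.restrictScalars A).comp β, θ, hβ'.comp hβ, ?_, hθ, haway, hft,
      fun b => (hcomm' (β b)).trans (congrArg q' (hcomm b))⟩
    show RingHom.ker ((β'.restrictScalars A).toRingHom.comp β.toRingHom) = _
    rw [← RingHom.comap_ker, hkerβA, show J.map (algebraMap A B') = (J.map (algebraMap A B)).map β.toRingHom by
      rw [Ideal.map_map]; congr 1; exact β.comp_algebraMap.symm,
      Ideal.comap_map_of_surjective' β.toRingHom hβ, hkerβ, sup_eq_left]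
    exact Ideal.map_mono hKJ

end Groth.Agent.H24Adic.NilLift
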