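import Groth.Agent.H24Adic.NilLift.Step

/-!
Reductions for lifting along a nilpotent ideal: localisation of quotients, bijectivity modulo the ideal along
nilpotent thickenings, and the square-zero step for an abstract algebra.
-/

set_option autoImplicit false
set_option linter.style.haveILetI false

universe u

open TensorProduct

namespace Groth.Agent.H24Adic.NilLift

/-- Etaleness of a localisation passes to the quotient over the quotient of the base. -/
theorem etale_away_quotient {A R S S' : Type u} [CommRing A] [CommRing R] [CommRing S] [CommRing S'] [Algebra A R]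
    [Algebra A S] [Algebra A S'] [Algebra R S'] [IsScalarTower A R S'] (hR : Function.Surjective (algebraMap A R))
    (q : S →ₐ[A] S') (hq : Function.Surjective q)
    (hker : RingHom.ker q.toRingHom ≤ (RingHom.ker (algebraMap A R)).map (algebraMap A S)) (b : S)
    [Algebra.Etale A (Localization.Away b)] : Algebra.Etale R (Localization.Away (q b)) := by
  let Sb := Localization.Away b
  let Sb' := Localization.Away (q b)
  let i : S →ₐ[A] Sb' := (IsScalarTower.toAlgHom A S' Sb').comp q
  let Lr : Sb →+* Sb' := IsLocalization.Away.lift b (g := i.toRingHom) (IsLocalization.Away.algebraMap_isUnit (q b))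
  have hLr : ∀ s, Lr (algebraMap S Sb s) = algebraMap S' Sb' (q s) := fun s => IsLocalization.Away.lift_eq _ _ s
  let L : Sb →ₐ[A] Sb' :=
    { toRingHom := Lr
      commutes' := fun a => by
        show Lr (algebraMap A Sb a) = algebraMap A Sb' a
        rw [IsScalarTower.algebraMap_apply A S Sb, hLr, q.commutes, ← IsScalarTower.algebraMap_apply] }
  let f : R ⊗[A] Sb →ₐ[R] Sb' := Algebra.TensorProduct.lift (Algebra.ofId R Sb') L fun _ _ => Commute.all _ _
  have hf : ∀ y, f (1 ⊗ₜ y) = Lr y := fun y => by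
    rw [Algebra.TensorProduct.lift_tmul, map_one, one_mul]
    rfl
  let inc : Sb →+* R ⊗[A] Sb := (Algebra.TensorProduct.includeRight : Sb →ₐ[A] R ⊗[A] Sb).toRingHom
  have hkill : ∀ x ∈ RingHom.ker q.toRingHom, inc (algebraMap S Sb x) = 0 := by
    intro x hx
    have hle : (RingHom.ker (algebraMap A R)).map (algebraMap A S) ≤ RingHom.ker (inc.comp (algebraMap S Sb)) := by
      refine Ideal.map_le_iff_le_comap.mpr fun κ hκ => ?_
      show inc (algebraMap S Sb (algebraMap A S κ)) = 0
      rw [← IsScalarTower.algebraMap_apply A S Sb]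
      show (Algebra.TensorProduct.includeRight : Sb →ₐ[A] R ⊗[A] Sb) (algebraMap A Sb κ) = 0
      rw [AlgHom.commutes, Algebra.TensorProduct.algebraMap_apply, show algebraMap A R κ = 0 from hκ, TensorProduct.zero_tmul]
    exact hle (hker hx)
  let back0 : S' →+* R ⊗[A] Sb :=
    RingHom.liftOfSurjective q.toRingHom hq ⟨inc.comp (algebraMap S Sb), fun x hx => hkill x hx⟩
  have hback0 : ∀ s, back0 (q s) = inc (algebraMap S Sb s) := fun s =>
    RingHom.liftOfRightInverse_comp_apply _ _ _ _ s
  let back : Sb' →+* R ⊗[A] Sb := IsLocalization.Away.lift (q b) (g := back0)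
    (by rw [hback0]; exact (IsLocalization.Away.algebraMap_isUnit b).map inc)
  have hback : ∀ s', back (algebraMap S' Sb' s') = back0 s' := fun s' => IsLocalization.Away.lift_eq _ _ s'
  have h1 : back.comp Lr = inc := IsLocalization.ringHom_ext (Submonoid.powers b) (RingHom.ext fun s => by
    show back (Lr (algebraMap S Sb s)) = inc (algebraMap S Sb s)
    rw [hLr, hback, hback0])
  have h2 : f.toRingHom.comp back = RingHom.id Sb' :=
    IsLocalization.ringHom_ext (Submonoid.powers (q b)) (RingHom.ext fun s' => by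
      obtain ⟨s, rfl⟩ := hq s'
      show f (back (algebraMap S' Sb' (q s))) = algebraMap S' Sb' (q s)
      rw [hback, hback0]
      exact (hf _).trans (hLr s))
  have hgen : ∀ z : R ⊗[A] Sb, ∃ y, z = 1 ⊗ₜ y := fun z => by
    induction z using TensorProduct.induction_on with
    | zero => exact ⟨0, (TensorProduct.tmul_zero _ _).symm⟩
    | add p p' hp hp' =>
      obtain ⟨y, rfl⟩ := hp
      obtain ⟨y', rfl⟩ := hp'
      exact ⟨y + y', (TensorProduct.tmul_add _ _ _).symm⟩
    | tmul r y =>
      obtain ⟨a, rfl⟩ := hR r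
      exact ⟨a • y, by rw [Algebra.algebraMap_eq_smul_one, TensorProduct.smul_tmul]⟩
  have hbij : Function.Bijective f := Function.bijective_iff_has_inverse.mpr ⟨back, fun z => by
    obtain ⟨y, rfl⟩ := hgen z
    rw [hf]
    exact RingHom.congr_fun h1 y, fun y => RingHom.congr_fun h2 y⟩
  exact Algebra.Etale.of_equiv (AlgEquiv.ofBijective f hbij)

theorem IsoMod.map_base {A A' R C : Type u} [CommRing A] [CommRing A'] [CommRing R] [CommRing C] [Algebra A A'] [Algebra A R]
    [Algebra A' R] [Algebra A C] [Algebra A' C] [Algebra R C] [IsScalarTower A A' R] [IsScalarTower A A' C]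
    [IsScalarTower A R C] [IsScalarTower A' R C] {I : Ideal A} (h : IsoMod I (R := R) (C := C)) :
    IsoMod (I.map (algebraMap A A')) (R := R) (C := C) := by
  have eR : (I.map (algebraMap A A')).map (algebraMap A' R) = I.map (algebraMap A R) := by
    rw [Ideal.map_map, ← IsScalarTower.algebraMap_eq]
  have eC : (I.map (algebraMap A A')).map (algebraMap A' C) = I.map (algebraMap A C) := by
    rw [Ideal.map_map, ← IsScalarTower.algebraMap_eq]
  refine ⟨fun c => ?_, fun r hr => ?_⟩
  · obtain ⟨r, hr⟩ := h.1 c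
    exact ⟨r, eC.symm ▸ hr⟩
  · rw [eC] at hr
    rw [eR]
    exact h.2 r hr

/-- Bijectivity modulo the ideal lifts along nilpotent thickenings of flat algebras. -/
theorem IsoMod.of_nilpotent {A R R0 C C0 : Type u} [CommRing A] [CommRing R] [CommRing R0] [CommRing C] [CommRing C0]
    [Algebra A R] [Algebra A R0] [Algebra A C] [Algebra A C0] [Algebra R C] [IsScalarTower A R C] [Algebra R0 C0]
    [IsScalarTower A R0 C0] [Module.Flat R C] {I : Ideal A} (J : Ideal A) (hJ : IsNilpotent J) (β : R →ₐ[A] R0)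
    (hβ : Function.Surjective β) (hkerβ : RingHom.ker β.toRingHom = J.map (algebraMap A R)) (q : C →ₐ[A] C0)
    (hq : Function.Surjective q) (hkerq : RingHom.ker q.toRingHom = J.map (algebraMap A C))
    (hcomm : ∀ r, algebraMap R0 C0 (β r) = q (algebraMap R C r)) (h : IsoMod I (R := R0) (C := C0)) :
    IsoMod I (R := R) (C := C) := by
  obtain ⟨n, hn⟩ := hJ
  have eR : (I.map (algebraMap A R)).map β.toRingHom = I.map (algebraMap A R0) := by
    rw [Ideal.map_map]; congr 1; exact β.comp_algebraMap
  have eC : (I.map (algebraMap A C)).map q.toRingHom = I.map (algebraMap A C0) := by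
    rw [Ideal.map_map]; congr 1; exact q.comp_algebraMap
  have one : ∀ c, ∃ r, algebraMap R C r - c ∈ I.map (algebraMap A C) ⊔ J.map (algebraMap A C) := fun c => by
    obtain ⟨r0, hr0⟩ := h.1 (q c)
    obtain ⟨r, rfl⟩ := hβ r0
    refine ⟨r, ?_⟩
    have h1 : q.toRingHom (algebraMap R C r - c) ∈ (I.map (algebraMap A C)).map q.toRingHom := by
      rw [eC]
      show q (algebraMap R C r - c) ∈ _
      rw [map_sub, ← hcomm]
      exact hr0
    rw [← hkerq]
    rw [← Ideal.mem_comap, Ideal.comap_map_of_surjective' q.toRingHom hq] at h1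
    exact h1
  refine ⟨fun c => ?_, fun r hr => ?_⟩
  · have all : ∀ (k : ℕ) (c : C), ∃ r, algebraMap R C r - c ∈ I.map (algebraMap A C) ⊔ (J ^ k).map (algebraMap A C) := by
      intro k
      induction k with
      | zero => exact fun c => ⟨0, by rw [pow_zero, Ideal.one_eq_top, Ideal.map_top, sup_top_eq]; trivial⟩
      | succ k ih =>
        intro c
        obtain ⟨r, hr⟩ := ih c
        suffices ∀ y ∈ (J ^ k).map (algebraMap A C),
            ∃ s, algebraMap R C s - y ∈ I.map (algebraMap A C) ⊔ (J ^ (k + 1)).map (algebraMap A C) by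
          obtain ⟨i, hi, y, hy, hiy⟩ := Submodule.mem_sup.mp hr
          obtain ⟨s, hs⟩ := this y hy
          refine ⟨r - s, ?_⟩
          rw [map_sub, show algebraMap R C r - algebraMap R C s - c = i - (algebraMap R C s - y) by
            linear_combination -hiy]
          exact sub_mem (Ideal.mem_sup_left hi) hs
        intro y hy
        refine Submodule.span_induction (p := fun y _ =>
          ∃ s, algebraMap R C s - y ∈ I.map (algebraMap A C) ⊔ (J ^ (k + 1)).map (algebraMap A C)) ?_ ?_ ?_ ?_ hy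
        · rintro _ ⟨i, -, rfl⟩
          exact ⟨algebraMap A R i, by rw [← IsScalarTower.algebraMap_apply, sub_self]; exact zero_mem _⟩
        · exact ⟨0, by rw [map_zero, sub_self]; exact zero_mem _⟩
        · rintro a b _ _ ⟨s, hs⟩ ⟨t, ht⟩
          exact ⟨s + t, by rw [map_add, add_sub_add_comm]; exact add_mem hs ht⟩
        · rintro c' a ha ⟨s, hs⟩
          obtain ⟨r', hr'⟩ := one c'
          refine ⟨r' * s, ?_⟩
          rw [map_mul, smul_eq_mul, show algebraMap R C r' * algebraMap R C s - c' * a =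
            algebraMap R C r' * (algebraMap R C s - a) + (algebraMap R C r' - c') * a by ring]
          refine add_mem (Ideal.mul_mem_left _ _ hs) ?_
          obtain ⟨i, hi, j, hj, hij⟩ := Submodule.mem_sup.mp hr'
          rw [← hij, add_mul]
          refine add_mem (Ideal.mem_sup_left (Ideal.mul_mem_right _ _ hi)) (Ideal.mem_sup_right ?_)
          rw [pow_succ', Ideal.map_mul]
          exact Ideal.mul_mem_mul hj ha
    obtain ⟨r, hr⟩ := all n c
    exact ⟨r, by rwa [hn, Submodule.zero_eq_bot, Ideal.map_bot, sup_bot_eq] at hr⟩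
  · let IR := I.map (algebraMap A R)
    let x : R ⧸ IR := Submodule.Quotient.mk (p := IR) r
    let d : Ideal R := LinearMap.ker (LinearMap.toSpanSingleton R (R ⧸ IR) x)
    let f : (R ⧸ d) →ₗ[R] R ⧸ IR := Submodule.liftQ d (LinearMap.toSpanSingleton R (R ⧸ IR) x) le_rfl
    have hf : Function.Injective f := LinearMap.ker_eq_bot.mp (Submodule.ker_liftQ_eq_bot _ _ _ le_rfl)
    have h0 : (1 : C) ⊗ₜ[R] x = 0 := by
      apply (TensorProduct.tensorQuotEquivQuotSMul C IR).injective
      rw [map_zero]
      show TensorProduct.tensorQuotEquivQuotSMul C IR ((1 : C) ⊗ₜ[R] Submodule.Quotient.mk (p := IR) r) = 0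
      refine (TensorProduct.tensorQuotEquivQuotSMul_tmul_mk IR (1 : C) r).trans ?_
      rw [Submodule.Quotient.mk_eq_zero, Ideal.smul_top_eq_map,
        Submodule.restrictScalars_mem, Ideal.map_map, ← IsScalarTower.algebraMap_eq, Algebra.smul_def, mul_one]
      exact hr
    have h1 : (1 : C) ⊗ₜ[R] (Submodule.Quotient.mk (p := d) (1 : R)) = 0 := by
      refine Module.Flat.lTensor_preserves_injective_linearMap (M := C) f hf ?_
      rw [LinearMap.lTensor_tmul, map_zero]
      show (1 : C) ⊗ₜ[R] f (Submodule.Quotient.mk 1) = 0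
      rw [Submodule.liftQ_apply, LinearMap.toSpanSingleton_apply, one_smul]
      exact h0
    have htop : d.map (algebraMap R C) = ⊤ := by
      have h2 := congrArg (TensorProduct.tensorQuotEquivQuotSMul C d) h1
      rw [map_zero] at h2
      rw [Ideal.eq_top_iff_one]
      have h3 : (Submodule.Quotient.mk (p := d • (⊤ : Submodule R C)) ((1 : R) • (1 : C))) = 0 := by
        rw [← h2]
        exact (TensorProduct.tensorQuotEquivQuotSMul_tmul_mk d (1 : C) 1).symm
      rwa [one_smul, Submodule.Quotient.mk_eq_zero, Ideal.smul_top_eq_map, Submodule.restrictScalars_mem] at h3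
    have hId : IR ≤ d := fun i hi => by
      show i • x = 0
      rw [← Submodule.Quotient.mk_smul, Submodule.Quotient.mk_eq_zero, smul_eq_mul]
      exact IR.mul_mem_right _ hi
    have h4 : d.map β.toRingHom = ⊤ := by
      refine h.one_mem _ (eR ▸ Ideal.map_mono hId) ?_
      rw [Ideal.map_map, show (algebraMap R0 C0).comp β.toRingHom = q.toRingHom.comp (algebraMap R C) from
        RingHom.ext hcomm, ← Ideal.map_map, htop, Ideal.map_top]
    have h5 : d ⊔ J.map (algebraMap A R) = ⊤ := by
      rw [← hkerβ, ← Ideal.comap_map_of_surjective' β.toRingHom hβ, h4, Ideal.comap_top]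
    have h6 := Ideal.sup_pow_eq_top (n := n) h5
    rw [← Ideal.map_pow, hn, Submodule.zero_eq_bot, Ideal.map_bot, sup_bot_eq, Ideal.eq_top_iff_one] at h6
    have h7 : (1 : R) • x = 0 := h6
    rwa [one_smul, Submodule.Quotient.mk_eq_zero] at h7

/-- The square-zero step for an algebra of finite type. -/
theorem exists_lift_step' {A : Type u} [CommRing A] [IsNoetherianRing A] (I K : Ideal A)
    (hK : ∀ x ∈ K, ∀ y ∈ K, x * y = 0) {B' : Type u} [CommRing B'] [Algebra A B'] [Algebra (A ⧸ K) B']
    [IsScalarTower A (A ⧸ K) B'] [Algebra.FiniteType A B']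
    (hB : ∀ a ∈ I, Algebra.Etale (A ⧸ K) (Localization.Away (algebraMap A B' a)))
    {S S0 : Type u} [CommRing S] [CommRing S0] [Algebra A S] [Algebra A S0]
    (hS : ∀ a ∈ I, Algebra.Etale A (Localization.Away (algebraMap A S a)))
    (mk0 : S →ₐ[A] S0) (hmk : Function.Surjective mk0) (hkmk : RingHom.ker mk0.toRingHom = K.map (algebraMap A S))
    [Algebra B' S0] [IsScalarTower A B' S0] [Algebra.Etale B' S0] (hiso : IsoMod I (R := B') (C := S0)) :
    ∃ (B : Type u) (_ : CommRing B) (_ : Algebra A B) (β : B →ₐ[A] B') (θ : B →ₐ[A] S),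
      Function.Surjective β ∧ RingHom.ker β.toRingHom = K.map (algebraMap A B) ∧
      (letI := θ.toRingHom.toAlgebra; Algebra.Etale B S) ∧
      (∀ a ∈ I, Algebra.Etale A (Localization.Away (algebraMap A B a))) ∧ Algebra.FiniteType A B ∧
      ∀ b, algebraMap B' S0 (β b) = mk0 (θ b) := by
  obtain ⟨d, π, hπ⟩ := Algebra.FiniteType.iff_quotient_mvPolynomial''.mp ‹Algebra.FiniteType A B'›
  let 𝔟 : Ideal (MvPolynomial (Fin d) A) := RingHom.ker π
  let e : (MvPolynomial (Fin d) A ⧸ 𝔟) ≃ₐ[A] B' := Ideal.quotientKerAlgEquivOfSurjective hπ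
  have hK𝔟 : K.map MvPolynomial.C ≤ 𝔟 := Ideal.map_le_iff_le_comap.mpr fun κ hκ => by
    show π (MvPolynomial.C κ) = 0
    rw [← MvPolynomial.algebraMap_eq, π.commutes, IsScalarTower.algebraMap_apply A (A ⧸ K) B',
      Ideal.Quotient.algebraMap_eq, Ideal.Quotient.eq_zero_iff_mem.mpr hκ, map_zero]
  letI : Algebra (A ⧸ K) (MvPolynomial (Fin d) A ⧸ 𝔟) := (e.symm.toRingHom.comp (algebraMap (A ⧸ K) B')).toAlgebra
  haveI : IsScalarTower A (A ⧸ K) (MvPolynomial (Fin d) A ⧸ 𝔟) := IsScalarTower.of_algebraMap_eq fun a => by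
    show _ = e.symm (algebraMap (A ⧸ K) B' (algebraMap A (A ⧸ K) a))
    rw [← IsScalarTower.algebraMap_apply, e.symm.commutes]
  letI : Algebra (MvPolynomial (Fin d) A ⧸ 𝔟) B' := e.toRingHom.toAlgebra
  letI : Algebra (MvPolynomial (Fin d) A ⧸ 𝔟) S0 := ((algebraMap B' S0).comp e.toRingHom).toAlgebra
  haveI : IsScalarTower (MvPolynomial (Fin d) A ⧸ 𝔟) B' S0 := IsScalarTower.of_algebraMap_eq fun _ => rfl
  haveI : IsScalarTower A (MvPolynomial (Fin d) A ⧸ 𝔟) S0 :=
    IsScalarTower.of_algebraMap_eq (R := A) (S := MvPolynomial (Fin d) A ⧸ 𝔟) (A := S0) fun a => by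
    show _ = algebraMap B' S0 (e (algebraMap A (MvPolynomial (Fin d) A ⧸ 𝔟) a))
    rw [e.commutes, ← IsScalarTower.algebraMap_apply]
  haveI : Algebra.Etale (MvPolynomial (Fin d) A ⧸ 𝔟) B' :=
    Algebra.Etale.of_equiv (AlgEquiv.ofBijective (Algebra.ofId (MvPolynomial (Fin d) A ⧸ 𝔟) B') e.bijective)
  haveI : Algebra.Etale (MvPolynomial (Fin d) A ⧸ 𝔟) S0 := Algebra.Etale.comp (MvPolynomial (Fin d) A ⧸ 𝔟) B' S0
  have hB' : ∀ a ∈ I, Algebra.Etale (A ⧸ K) (Localization.Away (algebraMap A (MvPolynomial (Fin d) A ⧸ 𝔟) a)) := fun a ha => by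
    haveI := hB a ha
    let es : B' →ₐ[A ⧸ K] MvPolynomial (Fin d) A ⧸ 𝔟 :=
      { toRingHom := e.symm.toRingHom
        commutes' := fun _ => rfl }
    have h1 := etale_away_quotient (A := A ⧸ K) (R := A ⧸ K) Function.surjective_id es e.symm.surjective
      (fun y hy => by
        have : y = 0 := e.symm.injective (hy.trans (map_zero e.symm).symm)
        rw [this]
        exact zero_mem _) (algebraMap A B' a)
    rwa [show es (algebraMap A B' a) = algebraMap A (MvPolynomial (Fin d) A ⧸ 𝔟) a from e.symm.commutes a] at h1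
  have hiso' : IsoMod I (R := MvPolynomial (Fin d) A ⧸ 𝔟) (C := S0) := by
    refine ⟨fun c => ?_, fun r hr => ?_⟩
    · obtain ⟨b, hb⟩ := hiso.1 c
      refine ⟨e.symm b, ?_⟩
      show algebraMap B' S0 (e (e.symm b)) - c ∈ _
      rwa [e.apply_symm_apply]
    · have h1 := Ideal.mem_map_of_mem e.symm.toRingHom (hiso.2 (e r) hr)
      rw [Ideal.map_map, show e.symm.toRingHom.comp (algebraMap A B') = algebraMap A (MvPolynomial (Fin d) A ⧸ 𝔟) from
        RingHom.ext e.symm.commutes] at h1
      have h2 : e.symm.toRingHom (e r) = r := e.symm_apply_apply r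
      rwa [h2] at h1
  obtain ⟨B, _, _, β, θ, hβs, hkerβ, hθ, haway, hft, hcomm⟩ := exists_lift_step I K hK 𝔟 hK𝔟 hB' hS mk0 hmk hkmk hiso'
  refine ⟨B, inferInstance, inferInstance, e.toAlgHom.comp β, θ, e.surjective.comp hβs, ?_, hθ, haway, hft, hcomm⟩
  rw [← hkerβ]
  ext b
  show e (β b) = 0 ↔ β b = 0
  exact e.map_eq_zero_iff

end Groth.Agent.H24Adic.NilLift
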