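import Groth.Agent.H24Adic.NilLift.Theta
import Groth.Agent.H24Adic.NilLift.Etale
import Groth.Agent.H24Adic.NilLift.Corrected

/-!
Lifting along a square-zero ideal algebras with a given etale neighbourhood of the ideal.
-/

set_option autoImplicit false
set_option linter.style.haveILetI false

universe u

open TensorProduct MvPolynomial

namespace Groth.Agent.H24Adic.NilLift

variable {A : Type u} [CommRing A]

/-- Torsion elements of the kernel of an additive map form a submodule. -/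
noncomputable def torsKer {R : Type u} [CommRing R] [Algebra A R] (I : Ideal A) {N S : Type u} [AddCommGroup N]
    [Module R N] [Module A N] [IsScalarTower A R N] [CommRing S] (θ : N →+ S) (hθ : ∀ (r : R) (n : N), θ n = 0 → θ (r • n) = 0) :
    Submodule R N where
  carrier := {n | Tors I n ∧ θ n = 0}
  zero_mem' := ⟨fun a _ => ⟨0, smul_zero _⟩, map_zero _⟩
  add_mem' {x y} hx hy := ⟨fun a ha => by
      obtain ⟨k, hk⟩ := hx.1 a ha
      obtain ⟨l, hl⟩ := hy.1 a ha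
      exact ⟨l + k, by rw [pow_add, mul_smul, smul_add, hk, zero_add, smul_comm, hl, smul_zero]⟩,
    by rw [map_add, hx.2, hy.2, add_zero]⟩
  smul_mem' r {x} hx := ⟨hx.1.map I ((LinearMap.lsmul R N r).restrictScalars A), hθ r x hx.2⟩

theorem mem_torsKer {R : Type u} [CommRing R] [Algebra A R] (I : Ideal A) {N S : Type u} [AddCommGroup N] [Module R N]
    [Module A N] [IsScalarTower A R N] [CommRing S] (θ : N →+ S) (hθ : ∀ (r : R) (n : N), θ n = 0 → θ (r • n) = 0) (n : N) :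
    n ∈ torsKer I θ hθ ↔ Tors I n ∧ θ n = 0 := Iff.rfl

theorem exists_lTensor_subtype {R C N : Type u} [CommRing R] [CommRing C] [Algebra R C] [AddCommGroup N] [Module R N]
    (K' : Submodule R N) {z : C ⊗[R] N} (hz : K'.mkQ.lTensor C z = 0) : ∃ w, K'.subtype.lTensor C w = z :=
  ((lTensor_exact C (f := K'.subtype) (g := K'.mkQ) (LinearMap.exact_subtype_mkQ K') K'.mkQ_surjective) z).mp hz

/-- The square-zero step. -/
theorem exists_lift_step [IsNoetherianRing A] (I K : Ideal A) (hK : ∀ x ∈ K, ∀ y ∈ K, x * y = 0) {d : ℕ}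
    (𝔟 : Ideal (MvPolynomial (Fin d) A)) (hK𝔟 : K.map MvPolynomial.C ≤ 𝔟)
    [Algebra (A ⧸ K) (MvPolynomial (Fin d) A ⧸ 𝔟)] [IsScalarTower A (A ⧸ K) (MvPolynomial (Fin d) A ⧸ 𝔟)]
    (hB : ∀ a ∈ I, Algebra.Etale (A ⧸ K) (Localization.Away (algebraMap A (MvPolynomial (Fin d) A ⧸ 𝔟) a)))
    {S S0 : Type u} [CommRing S] [CommRing S0] [Algebra A S] [Algebra A S0]
    (hS : ∀ a ∈ I, Algebra.Etale A (Localization.Away (algebraMap A S a)))
    (mk0 : S →ₐ[A] S0) (hmk : Function.Surjective mk0) (hkmk : RingHom.ker mk0.toRingHom = K.map (algebraMap A S))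
    [Algebra (MvPolynomial (Fin d) A ⧸ 𝔟) S0] [IsScalarTower A (MvPolynomial (Fin d) A ⧸ 𝔟) S0]
    [Algebra.Etale (MvPolynomial (Fin d) A ⧸ 𝔟) S0]
    (hiso : IsoMod I (R := MvPolynomial (Fin d) A ⧸ 𝔟) (C := S0)) :
    ∃ (B : Type u) (_ : CommRing B) (_ : Algebra A B) (β : B →ₐ[A] MvPolynomial (Fin d) A ⧸ 𝔟) (θ : B →ₐ[A] S),
      Function.Surjective β ∧ RingHom.ker β.toRingHom = K.map (algebraMap A B) ∧
      (letI := θ.toRingHom.toAlgebra; Algebra.Etale B S) ∧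
      (∀ a ∈ I, Algebra.Etale A (Localization.Away (algebraMap A B a))) ∧ Algebra.FiniteType A B ∧
      ∀ b, algebraMap (MvPolynomial (Fin d) A ⧸ 𝔟) S0 (β b) = mk0 (θ b) := by
  classical
  have hflat : ∀ a ∈ I, Module.Flat A (Localization.Away (algebraMap A S a)) := fun a ha => by
    haveI := hS a ha
    infer_instance
  have hmem : ∀ y : S, mk0 y = 0 ↔ y ∈ K.map (algebraMap A S) := fun y => by rw [← hkmk]; rfl
  have hsq : ∀ x y, mk0 x = 0 → mk0 y = 0 → x * y = 0 := fun x y hx hy =>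
    Ideal.mem_bot.mp (map_sq_eq_bot hK S ▸ sq (K.map (algebraMap A S)) ▸ Ideal.mul_mem_mul ((hmem x).mp hx) ((hmem y).mp hy))
  choose cX hcX using fun i : Fin d => hmk (algebraMap (MvPolynomial (Fin d) A ⧸ 𝔟) S0 (Ideal.Quotient.mk 𝔟 (X i)))
  have hg0 : ∀ p, mk0 (aeval cX p) = algebraMap (MvPolynomial (Fin d) A ⧸ 𝔟) S0 (Ideal.Quotient.mk 𝔟 p) := fun p => by
    refine AlgHom.congr_fun (φ₁ := mk0.comp (aeval cX))
      (φ₂ := (IsScalarTower.toAlgHom A (MvPolynomial (Fin d) A ⧸ 𝔟) S0).comp (Ideal.Quotient.mkₐ A 𝔟))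
      (MvPolynomial.algHom_ext fun i => ?_) p
    show mk0 (aeval cX (X i)) = _
    rw [aeval_X, hcX]
    rfl
  obtain ⟨Θ, hΘc, hΘr, hΘ1, hΘκ, hΘker, hΘs, hΘKS⟩ := exists_theta I K hK (R := MvPolynomial (Fin d) A ⧸ 𝔟)
    (Ideal.Quotient.mkₐ A 𝔟) Ideal.Quotient.mk_surjective mk0 hmk (le_of_eq hkmk) (aeval cX) hg0 hflat
  simp only [Ideal.Quotient.mkₐ_eq_mk] at hΘr hΘ1
  let θ1 : (MvPolynomial (Fin d) A ⧸ 𝔟) ⊗[A] K →+ S :=
    AddMonoidHom.mk' (fun n => Θ ((1 : S0) ⊗ₜ n)) fun x y => by rw [TensorProduct.tmul_add, map_add]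
  let K' := torsKer (R := MvPolynomial (Fin d) A ⧸ 𝔟) I θ1 fun r n hn => by
    obtain ⟨p, rfl⟩ := Ideal.Quotient.mk_surjective r
    show Θ _ = 0
    rw [hΘ1, show Θ ((1 : S0) ⊗ₜ n) = 0 from hn, mul_zero]
  have h1 : ∀ z, Θ z = 0 → K'.mkQ.lTensor S0 z = 0 := fun z hz => by
    obtain ⟨n, hn, rfl⟩ := hiso.exists_tors (hΘker z hz)
    rw [LinearMap.lTensor_tmul, show K'.mkQ n = 0 from (Submodule.Quotient.mk_eq_zero K').mpr ⟨hn, hz⟩, TensorProduct.tmul_zero]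
  have h2 : ∀ z, K'.mkQ.lTensor S0 z = 0 → Θ z = 0 := fun z hz => by
    obtain ⟨w, rfl⟩ := exists_lTensor_subtype K' hz
    clear hz
    induction w using TensorProduct.induction_on with
    | zero => rw [map_zero, map_zero]
    | add a b ha hb => rw [map_add, map_add, ha, hb, add_zero]
    | tmul y n =>
      obtain ⟨y, rfl⟩ := hmk y
      rw [LinearMap.lTensor_tmul, Submodule.subtype_apply,
        show mk0 y ⊗ₜ[MvPolynomial (Fin d) A ⧸ 𝔟] (n : (MvPolynomial (Fin d) A ⧸ 𝔟) ⊗[A] K) =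
          mk0 y • ((1 : S0) ⊗ₜ[MvPolynomial (Fin d) A ⧸ 𝔟] (n : (MvPolynomial (Fin d) A ⧸ 𝔟) ⊗[A] K)) by
          rw [TensorProduct.smul_tmul', smul_eq_mul, mul_one], hΘc,
        show Θ ((1 : S0) ⊗ₜ (n : (MvPolynomial (Fin d) A ⧸ 𝔟) ⊗[A] K)) = 0 from ((mem_torsKer I θ1 _ _).mp n.2).2, mul_zero]
  obtain ⟨s, F, hF⟩ := Submodule.fg_iff_exists_fin_generating_family.mp (IsNoetherian.noetherian 𝔟)
  have hF' : Ideal.span (Set.range F) = 𝔟 := hF
  have hFmem : ∀ l, F l ∈ 𝔟 := fun l => hF' ▸ Ideal.subset_span ⟨l, rfl⟩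
  obtain ⟨u', k, hk⟩ := Submodule.fg_iff_exists_fin_generating_family.mp (Module.Finite.fg_top : (⊤ : Submodule A K).FG)
  have hk𝔟 : ∀ i, C (k i : A) ∈ 𝔟 := fun i => hK𝔟 (Ideal.mem_map_of_mem _ (k i).2)
  obtain ⟨g, x, hgmk, hgy, hsol, hgF⟩ := exists_corrected I K 𝔟 hB hiso mk0 hsq cX hg0 Θ hΘr hΘ1 hΘκ
    (fun z => (hmem _).mpr (hΘKS z)) (fun y hy => hΘs y ((hmem y).mp hy)) K'.mkQ K'.mkQ_surjective h1 h2 hF' hk hk𝔟
  let L : Ideal (MvPolynomial (Fin d) A) :=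
    { carrier := {p | ∃ q : Fin s → MvPolynomial (Fin d) A, ∑ l, q l * F l = p ∧ ∑ l, Ideal.Quotient.mk 𝔟 (q l) • x l = 0}
      zero_mem' := ⟨0, by simp, Finset.sum_eq_zero fun l _ => by
        rw [Pi.zero_apply, map_zero]
        exact zero_smul (MvPolynomial (Fin d) A ⧸ 𝔟) (x l)⟩
      add_mem' := by
        rintro _ _ ⟨q, rfl, hq⟩ ⟨q', rfl, hq'⟩
        exact ⟨q + q', by simp [add_mul, Finset.sum_add_distrib], by
          simp only [Pi.add_apply, map_add, add_smul, Finset.sum_add_distrib, hq, hq', add_zero]⟩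
      smul_mem' := by
        rintro p _ ⟨q, rfl, hq⟩
        refine ⟨fun l => p * q l, by simp [mul_assoc, Finset.mul_sum], ?_⟩
        rw [sum_mk_mul, hq, smul_zero] }
  have hgL : ∀ p ∈ L, g p = 0 := by
    rintro _ ⟨q, rfl, hq⟩
    rw [hgF q 0 (by rw [map_zero, hq]), TensorProduct.tmul_zero, map_zero]
  have hKL : ∀ r : Fin u' → MvPolynomial (Fin d) A,
      ∑ i, r i * C (k i : A) ∈ L ↔ K'.mkQ (∑ i, Ideal.Quotient.mk 𝔟 (r i) • ((1 : MvPolynomial (Fin d) A ⧸ 𝔟) ⊗ₜ[A] k i)) = 0 := by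
    intro r
    rw [map_sum]
    simp only [map_smul]
    constructor
    · rintro ⟨q, hq, hq0⟩
      exact (hsol q r hq).symm.trans hq0
    · intro hr
      obtain ⟨q, hq⟩ := Ideal.mem_span_range_iff_exists_fun.mp (hF'.symm ▸
        (Ideal.sum_mem _ fun i _ => Ideal.mul_mem_left _ _ (hk𝔟 i) : ∑ i, r i * C (k i : A) ∈ 𝔟))
      exact ⟨q, hq, (hsol q r hq).trans hr⟩
  have hsum𝔟 : ∀ p ∈ 𝔟, ∃ r : Fin u' → MvPolynomial (Fin d) A, p - ∑ i, r i * C (k i : A) ∈ L := fun p hp => by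
    obtain ⟨q, rfl⟩ := Ideal.mem_span_range_iff_exists_fun.mp (hF'.symm ▸ hp)
    obtain ⟨n, hn⟩ := K'.mkQ_surjective (∑ l, Ideal.Quotient.mk 𝔟 (q l) • x l)
    obtain ⟨r, rfl⟩ := exists_sum_gen K (Ideal.Quotient.mkₐ A 𝔟) Ideal.Quotient.mk_surjective k hk n
    obtain ⟨q', hq'⟩ := Ideal.mem_span_range_iff_exists_fun.mp (hF'.symm ▸
      (Ideal.sum_mem _ fun i _ => Ideal.mul_mem_left _ _ (hk𝔟 i) : ∑ i, r i * C (k i : A) ∈ 𝔟))
    refine ⟨r, q - q', by simp [sub_mul, Finset.sum_sub_distrib, hq'], ?_⟩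
    simp only [Pi.sub_apply, map_sub, sub_smul, Finset.sum_sub_distrib, hsol q' r hq', sub_eq_zero]
    simp only [map_sum, map_smul, Ideal.Quotient.mkₐ_eq_mk] at hn
    exact hn.symm
  let β : MvPolynomial (Fin d) A ⧸ L →ₐ[A] MvPolynomial (Fin d) A ⧸ 𝔟 :=
    Ideal.Quotient.liftₐ L (Ideal.Quotient.mkₐ A 𝔟) fun p hp => by
      obtain ⟨q, rfl, -⟩ := hp
      exact Ideal.Quotient.eq_zero_iff_mem.mpr (Ideal.sum_mem _ fun l _ => Ideal.mul_mem_left _ _ (hFmem l))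
  let θ : MvPolynomial (Fin d) A ⧸ L →ₐ[A] S := Ideal.Quotient.liftₐ L g hgL
  have hβs : Function.Surjective β := fun y => by
    obtain ⟨p, rfl⟩ := Ideal.Quotient.mk_surjective y
    exact ⟨Ideal.Quotient.mk L p, rfl⟩
  have hβθ : ∀ b, algebraMap (MvPolynomial (Fin d) A ⧸ 𝔟) S0 (β b) = mk0 (θ b) := fun b => by
    obtain ⟨p, rfl⟩ := Ideal.Quotient.mk_surjective b
    exact (hgmk p).symm
  have hkerβ : RingHom.ker β.toRingHom = K.map (algebraMap A (MvPolynomial (Fin d) A ⧸ L)) := by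
    refine le_antisymm (fun b hb => ?_) (Ideal.map_le_iff_le_comap.mpr fun κ hκ => ?_)
    · obtain ⟨p, rfl⟩ := Ideal.Quotient.mk_surjective b
      obtain ⟨r, hr⟩ := hsum𝔟 p (Ideal.Quotient.eq_zero_iff_mem.mp hb)
      rw [Ideal.Quotient.eq.mpr hr, map_sum]
      exact Ideal.sum_mem _ fun i _ => by
        rw [map_mul]
        exact Ideal.mul_mem_left _ _ (Ideal.mem_map_of_mem _ (k i).2)
    · show β (algebraMap A _ κ) = 0
      rw [β.commutes, IsScalarTower.algebraMap_apply A (A ⧸ K) (MvPolynomial (Fin d) A ⧸ 𝔟), Ideal.Quotient.algebraMap_eq,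
        Ideal.Quotient.eq_zero_iff_mem.mpr hκ, map_zero]
  have hinj := rTensor_injective hK β (le_of_eq hkerβ) hβs
  have key : ∀ y : (MvPolynomial (Fin d) A ⧸ L) ⊗[A] K,
      mult K (MvPolynomial (Fin d) A ⧸ L) y = 0 ↔ K'.mkQ (β.toLinearMap.rTensor K y) = 0 := by
    intro y
    obtain ⟨r, hr⟩ := exists_sum_gen K (Ideal.Quotient.mkₐ A 𝔟) Ideal.Quotient.mk_surjective k hk (β.toLinearMap.rTensor K y)
    have hy : y = ∑ i, Ideal.Quotient.mk L (r i) ⊗ₜ[A] k i := hinj (by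
      rw [hr, map_sum]
      exact Finset.sum_congr rfl fun i _ => by rw [TensorProduct.smul_tmul', smul_eq_mul, mul_one]; rfl)
    rw [hr]
    simp only [Ideal.Quotient.mkₐ_eq_mk]
    rw [← hKL, ← Ideal.Quotient.eq_zero_iff_mem, hy, map_sum, map_sum]
    simp only [mult_tmul, map_mul]
    rfl
  have hθΘ : ∀ y : (MvPolynomial (Fin d) A ⧸ L) ⊗[A] K,
      mult K S (θ.toLinearMap.rTensor K y) = Θ ((1 : S0) ⊗ₜ (β.toLinearMap.rTensor K y)) := fun y => by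
    induction y using TensorProduct.induction_on with
    | zero => rw [map_zero, map_zero, map_zero, TensorProduct.tmul_zero, map_zero]
    | add a b ha hb => rw [map_add, map_add, ha, hb, map_add, TensorProduct.tmul_add, map_add]
    | tmul b κ =>
      obtain ⟨p, rfl⟩ := Ideal.Quotient.mk_surjective b
      rw [LinearMap.rTensor_tmul, LinearMap.rTensor_tmul, mult_tmul]
      show g p * algebraMap A S κ = Θ ((1 : S0) ⊗ₜ (Ideal.Quotient.mk 𝔟 p ⊗ₜ[A] κ))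
      rw [hgy p _ ((hmem _).mpr (Ideal.mem_map_of_mem _ κ.2)),
        show Ideal.Quotient.mk 𝔟 p ⊗ₜ[A] κ = Ideal.Quotient.mk 𝔟 p • ((1 : MvPolynomial (Fin d) A ⧸ 𝔟) ⊗ₜ[A] κ) by
          rw [TensorProduct.smul_tmul', smul_eq_mul, mul_one], hΘ1, hΘκ]
  refine ⟨MvPolynomial (Fin d) A ⧸ L, inferInstance, inferInstance, β, θ, hβs, hkerβ, ?_, fun a ha => ?_, inferInstance, hβθ⟩
  · refine etale_over hK β hβs hkerβ θ mk0 hmk hkmk hβθ hiso hflat fun y hy hy0 => (key y).mpr ?_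
    exact (Submodule.Quotient.mk_eq_zero K').mpr ((mem_torsKer I θ1 _ _).mpr ⟨hy.map I (β.toLinearMap.rTensor K), (hθΘ y).symm.trans hy0⟩)
  · haveI := hB a ha
    refine etale_away (I := I) hK β hβs hkerβ a ha fun y hy a ha => ?_
    obtain ⟨e, he⟩ := ((mem_torsKer I θ1 _ _).mp ((Submodule.Quotient.mk_eq_zero K').mp ((key y).mp hy))).1 a ha
    exact ⟨e, hinj (by rw [map_smul, he, map_zero])⟩

end Groth.Agent.H24Adic.NilLift
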