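import Groth.Agent.H24Adic.NilLift.Torsion
import Groth.Agent.H24Adic.NilLift.Mult
import Groth.Agent.H9Hens.EtaleQuotLift
import Groth.Agent.H3CAlg.ElkikPrincipal

/-!
The linear system of liftings of a presentation along a square-zero ideal, and its obstructions away
from the ideal.
-/

set_option autoImplicit false
set_option linter.style.haveILetI false

universe u

open TensorProduct MvPolynomial

namespace Groth.Agent.H24Adic.NilLift

variable {A : Type u} [CommRing A] {K : Ideal A} {d s u' : ℕ} {𝔟 : Ideal (MvPolynomial (Fin d) A)}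

/-- `x` gives a linear map on `𝔟` which extends `can` on the part coming from `K`. -/
def Sol (𝔟 : Ideal (MvPolynomial (Fin d) A)) {M : Type u} [AddCommGroup M] [Module (MvPolynomial (Fin d) A ⧸ 𝔟) M] (F : Fin s → MvPolynomial (Fin d) A)
    (k : Fin u' → K) (c : Fin u' → M) (x : Fin s → M) : Prop :=
  ∀ (q : Fin s → MvPolynomial (Fin d) A) (r : Fin u' → MvPolynomial (Fin d) A),
    ∑ l, q l * F l = ∑ i, r i * C (k i : A) →
      ∑ l, Ideal.Quotient.mk 𝔟 (q l) • x l = ∑ i, Ideal.Quotient.mk 𝔟 (r i) • c i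

theorem Sol.map {M M' : Type u} [AddCommGroup M] [Module (MvPolynomial (Fin d) A ⧸ 𝔟) M] [AddCommGroup M']
    [Module (MvPolynomial (Fin d) A ⧸ 𝔟) M'] {F : Fin s → MvPolynomial (Fin d) A} {k : Fin u' → K} {c : Fin u' → M}
    {x : Fin s → M} (h : Sol 𝔟 F k c x) (f : M →ₗ[MvPolynomial (Fin d) A ⧸ 𝔟] M') : Sol 𝔟 F k (f ∘ c) (f ∘ x) :=
  fun q r e => by
    have := congrArg f (h q r e)
    simpa [map_sum] using this

/-- A solution gives a map on the ideal. -/
theorem Sol.exists_psi {M : Type u} [AddCommGroup M] [Module (MvPolynomial (Fin d) A ⧸ 𝔟) M]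
    {F : Fin s → MvPolynomial (Fin d) A} (hF : Ideal.span (Set.range F) = 𝔟) {k : Fin u' → K} {c : Fin u' → M}
    {x : Fin s → M} (h : Sol 𝔟 F k c x) (hk𝔟 : ∀ i, C (k i : A) ∈ 𝔟) :
    ∃ Ψ : MvPolynomial (Fin d) A → M,
      (∀ q : Fin s → MvPolynomial (Fin d) A, Ψ (∑ l, q l * F l) = ∑ l, Ideal.Quotient.mk 𝔟 (q l) • x l) ∧
      (∀ r : Fin u' → MvPolynomial (Fin d) A, Ψ (∑ i, r i * C (k i : A)) = ∑ i, Ideal.Quotient.mk 𝔟 (r i) • c i) := by
  classical
  refine ⟨fun p => if hp : ∃ q : Fin s → MvPolynomial (Fin d) A, ∑ l, q l * F l = p then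
    ∑ l, Ideal.Quotient.mk 𝔟 (hp.choose l) • x l else 0, fun q => ?_, fun r => ?_⟩
  · have hp : ∃ q' : Fin s → MvPolynomial (Fin d) A, ∑ l, q' l * F l = ∑ l, q l * F l := ⟨q, rfl⟩
    beta_reduce
    rw [dif_pos hp]
    have := h (fun l => hp.choose l - q l) 0 (by
      simp only [Pi.zero_apply, zero_mul, Finset.sum_const_zero, sub_mul, Finset.sum_sub_distrib]
      exact sub_eq_zero.mpr hp.choose_spec)
    simp only [map_sub, sub_smul, Finset.sum_sub_distrib, Pi.zero_apply, map_zero, zero_smul, Finset.sum_const_zero] at this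
    exact sub_eq_zero.mp (this.trans (Finset.sum_eq_zero fun i _ => zero_smul (MvPolynomial (Fin d) A ⧸ 𝔟) (c i)))
  · have hp : ∃ q' : Fin s → MvPolynomial (Fin d) A, ∑ l, q' l * F l = ∑ i, r i * C (k i : A) := by
      refine Ideal.mem_span_range_iff_exists_fun.mp (hF.symm ▸ ?_)
      exact Ideal.sum_mem _ fun i _ => Ideal.mul_mem_left _ _ (hk𝔟 i)
    beta_reduce
    rw [dif_pos hp]
    exact h _ r hp.choose_spec

theorem sum_mk_mul {M : Type u} [AddCommGroup M] [Module (MvPolynomial (Fin d) A ⧸ 𝔟) M] {n : ℕ}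
    (q : Fin n → MvPolynomial (Fin d) A) (p : MvPolynomial (Fin d) A) (x : Fin n → M) :
    ∑ l, Ideal.Quotient.mk 𝔟 (p * q l) • x l = Ideal.Quotient.mk 𝔟 p • ∑ l, Ideal.Quotient.mk 𝔟 (q l) • x l := by
  rw [Finset.smul_sum]
  exact Finset.sum_congr rfl fun l _ => by rw [map_mul, mul_smul]

variable [Algebra (A ⧸ K) (MvPolynomial (Fin d) A ⧸ 𝔟)] [IsScalarTower A (A ⧸ K) (MvPolynomial (Fin d) A ⧸ 𝔟)]

/-- Away from the ideal every homogeneous solution comes from a derivation. -/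
theorem exists_pow_smul_eq_deriv (a : A)
    [Algebra.Etale (A ⧸ K) (Localization.Away (algebraMap A (MvPolynomial (Fin d) A ⧸ 𝔟) a))]
    {M : Type u} [AddCommGroup M] [Module (MvPolynomial (Fin d) A ⧸ 𝔟) M] [Module A M]
    [IsScalarTower A (MvPolynomial (Fin d) A ⧸ 𝔟) M]
    {F : Fin s → MvPolynomial (Fin d) A} (hF : Ideal.span (Set.range F) = 𝔟) {k : Fin u' → K}
    (hk : Submodule.span A (Set.range k) = ⊤) (hk𝔟 : ∀ i, C (k i : A) ∈ 𝔟) {x : Fin s → M}
    (h : Sol 𝔟 F k (fun _ => (0 : M)) x) :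
    ∃ (e : ℕ) (w : Fin d → M), ∀ l, ∑ i, Ideal.Quotient.mk 𝔟 (pderiv i (F l)) • w i = a ^ e • x l := by
  classical
  let P := MvPolynomial (Fin d) A
  let R := A ⧸ K
  let R0 := P ⧸ 𝔟
  obtain ⟨Ψ, hΨ, hΨK⟩ := h.exists_psi hF hk𝔟
  have hmem : ∀ p ∈ 𝔟, ∃ q : Fin s → P, ∑ l, q l * F l = p := fun p hp =>
    Ideal.mem_span_range_iff_exists_fun.mp (hF.symm ▸ hp)
  have hΨadd : ∀ p ∈ 𝔟, ∀ p' ∈ 𝔟, Ψ (p + p') = Ψ p + Ψ p' := fun p hp p' hp' => by
    obtain ⟨q, rfl⟩ := hmem p hp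
    obtain ⟨q', rfl⟩ := hmem p' hp'
    rw [← Finset.sum_add_distrib, show (∑ l, (q l * F l + q' l * F l)) = ∑ l, (q + q') l * F l by simp [add_mul],
      hΨ, hΨ, hΨ, ← Finset.sum_add_distrib]
    simp [add_smul]
  have hΨmul : ∀ (p : P), ∀ p' ∈ 𝔟, Ψ (p * p') = Ideal.Quotient.mk 𝔟 p • Ψ p' := fun p p' hp' => by
    obtain ⟨q, rfl⟩ := hmem p' hp'
    rw [Finset.mul_sum, show (∑ l, p * (q l * F l)) = ∑ l, (p * q l) * F l by simp [mul_assoc], hΨ, hΨ, sum_mk_mul]
  have hΨ0 : Ψ 0 = 0 := by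
    have h1 := hΨ (fun _ => 0)
    simp only [zero_mul, Finset.sum_const_zero, map_zero] at h1
    exact h1.trans (Finset.sum_eq_zero fun l _ => zero_smul R0 (x l))
  have hΨsum : ∀ {ι : Type} (S : Finset ι) (p : ι → P), (∀ i, p i ∈ 𝔟) → Ψ (∑ i ∈ S, p i) = ∑ i ∈ S, Ψ (p i) := by
    intro ι S p hp
    induction S using Finset.induction_on with
    | empty => simpa using hΨ0
    | insert b S hb ih =>
      rw [Finset.sum_insert hb, Finset.sum_insert hb, hΨadd _ (hp b) _ (Ideal.sum_mem _ fun i _ => hp i), ih]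
  let red : P →+* MvPolynomial (Fin d) R := MvPolynomial.map (algebraMap A R)
  have hreds : Function.Surjective red := MvPolynomial.map_surjective _ Ideal.Quotient.mk_surjective
  have hzero : ∀ p, red p = 0 → p ∈ 𝔟 ∧ Ψ p = 0 := by
    intro p hp
    have hp' : p ∈ Ideal.span (Set.range fun i => C (σ := Fin d) (k i : A)) := by
      have h1 : p ∈ RingHom.ker red := hp
      rw [MvPolynomial.ker_map, Ideal.Quotient.algebraMap_eq, Ideal.mk_ker] at h1
      refine (Ideal.map_le_iff_le_comap.mpr fun κ hκ => ?_) h1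
      have h2 : (⟨κ, hκ⟩ : K) ∈ Submodule.span A (Set.range k) := hk ▸ trivial
      obtain ⟨f, hf⟩ := (Submodule.mem_span_range_iff_exists_fun A).mp h2
      have h3 : κ = ∑ i, f i * (k i : A) := by
        have := congrArg Subtype.val hf
        simpa using this.symm
      rw [Ideal.mem_comap, h3, map_sum]
      exact Ideal.sum_mem _ fun i _ => by rw [map_mul]; exact Ideal.mul_mem_left _ _ (Ideal.subset_span ⟨i, rfl⟩)
    obtain ⟨r, rfl⟩ := Ideal.mem_span_range_iff_exists_fun.mp hp'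
    exact ⟨Ideal.sum_mem _ fun i _ => Ideal.mul_mem_left _ _ (hk𝔟 i), (hΨK r).trans (by simp)⟩
  let π : MvPolynomial (Fin d) R →ₐ[R] R0 := MvPolynomial.aeval fun i => Ideal.Quotient.mk 𝔟 (X i)
  have hπ : ∀ p, π (red p) = Ideal.Quotient.mk 𝔟 p := fun p => by
    refine RingHom.congr_fun (f := π.toRingHom.comp red) (g := Ideal.Quotient.mk 𝔟) (MvPolynomial.ringHom_ext (fun r => ?_) (fun i => ?_)) p
    · show π (red (C r)) = _
      rw [map_C, aeval_C, ← IsScalarTower.algebraMap_apply]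
      rfl
    · show π (red (X i)) = _
      rw [map_X, aeval_X]
  have hπs : Function.Surjective π := fun y => by
    obtain ⟨p, rfl⟩ := Ideal.Quotient.mk_surjective y
    exact ⟨red p, hπ p⟩
  let t := algebraMap A R a
  let T := Localization.Away t
  let BT := Localization.Away (algebraMap A R0 a)
  have hat : algebraMap R R0 t = algebraMap A R0 a := (IsScalarTower.algebraMap_apply A R R0 a).symm
  have hu : IsUnit (algebraMap R BT t) := by
    rw [IsScalarTower.algebraMap_apply R R0 BT, hat]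
    exact IsLocalization.Away.algebraMap_isUnit _
  letI : Algebra T BT := (IsLocalization.Away.lift t hu).toAlgebra
  haveI : IsScalarTower R T BT := IsScalarTower.of_algebraMap_eq fun y => (IsLocalization.Away.lift_eq t hu y).symm
  haveI : Algebra.Etale R T := Algebra.Etale.of_isLocalizationAway t
  haveI : Algebra.Etale T BT := Algebra.Etale.of_restrictScalars R T BT
  haveI : IsLocalization (Algebra.algebraMapSubmonoid R0 (Submonoid.powers t)) BT := by
    rw [show Algebra.algebraMapSubmonoid R0 (Submonoid.powers t) = Submonoid.powers (algebraMap A R0 a) by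
      rw [Algebra.algebraMapSubmonoid, Submonoid.map_powers, hat]]
    infer_instance
  obtain ⟨s', f, Q, c, hf0, hfgen, hfeq⟩ :=
    H3CAlg.ElkikPrincipal.exists_data (A := R) (T := T) t (B := R0) (BT := BT) inferInstance π hπs
  choose G hG using fun i => hreds (f i)
  choose Q' hQ' using fun i l => hreds (Q i l)
  have hG𝔟 : ∀ i, G i ∈ 𝔟 := fun i => Ideal.Quotient.eq_zero_iff_mem.mp (by rw [← hπ, hG, hf0])
  let w : Fin d → M := fun i => ∑ l, Ideal.Quotient.mk 𝔟 (Q' i l) • Ψ (G l)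
  let δ : P → M := fun p => ∑ i, Ideal.Quotient.mk 𝔟 (pderiv i p) • w i
  have hcong : ∀ p p', p' ∈ 𝔟 → red p = red p' → p ∈ 𝔟 ∧ Ψ p = Ψ p' := fun p p' hp' e => by
    obtain ⟨h1, h2⟩ := hzero (p - p') (by rw [map_sub, e, sub_self])
    have := hΨadd _ h1 _ hp'
    rw [sub_add_cancel, h2, zero_add] at this
    exact ⟨sub_add_cancel p p' ▸ add_mem h1 hp', this⟩
  have hCa : ∀ (j : ℕ) (m : M), Ideal.Quotient.mk 𝔟 (C a ^ j) • m = a ^ j • m := fun j m => by
    rw [← map_pow, ← MvPolynomial.algebraMap_eq]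
    exact algebraMap_smul R0 (a ^ j) m
  have hstep : ∀ l, a ^ c • Ψ (G l) = δ (G l) := by
    intro l
    have hsq : ∀ y ∈ Ideal.span (Set.range G) ^ 2, y ∈ 𝔟 ∧ Ψ y = 0 := by
      intro y hy
      have hy' : y ∈ 𝔟 * 𝔟 := by
        rw [← sq]; exact Ideal.pow_right_mono (Ideal.span_le.mpr (by rintro _ ⟨i, rfl⟩; exact hG𝔟 i)) 2 hy
      refine Submodule.mul_induction_on hy' (fun p hp p' hp' => ⟨𝔟.mul_mem_left _ hp', ?_⟩) (fun p p' hp hp' =>
        ⟨add_mem hp.1 hp'.1, by rw [hΨadd _ hp.1 _ hp'.1, hp.2, hp'.2, add_zero]⟩)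
      rw [hΨmul _ _ hp', Ideal.Quotient.eq_zero_iff_mem.mpr hp]
      exact zero_smul R0 (Ψ p')
    have h1 : C t ^ c * f l - ∑ i, pderiv i (f l) * ∑ j, Q i j * f j ∈ (Ideal.span (Set.range G) ^ 2).map red := by
      rw [Ideal.map_pow, Ideal.map_span, ← Set.range_comp, show red ∘ G = f from funext hG]
      exact hfeq l
    obtain ⟨y, hy, hye⟩ := (Ideal.mem_map_iff_of_surjective _ hreds).mp h1
    obtain ⟨hy1, hy2⟩ := hsq y hy
    have he : red (C a ^ c * G l) = red (y + ∑ i, pderiv i (G l) * ∑ j, Q' i j * G j) := by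
      rw [map_add, map_mul, map_pow, hye, map_sum, hG, show red (C a) = C t from map_C _ _]
      simp only [map_mul, map_sum, hQ', hG, show ∀ i p, red (pderiv i p) = pderiv i (red p) from
        fun i p => (pderiv_map).symm]
      ring
    have hs1 : ∀ i, pderiv i (G l) * ∑ j, Q' i j * G j ∈ 𝔟 := fun i =>
      Ideal.mul_mem_left _ _ (Ideal.sum_mem _ fun j _ => Ideal.mul_mem_left _ _ (hG𝔟 j))
    have h3 := (hcong _ _ (add_mem hy1 (Ideal.sum_mem _ fun i _ => hs1 i)) he).2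
    rw [hΨadd _ hy1 _ (Ideal.sum_mem _ fun i _ => hs1 i), hy2, zero_add, hΨmul _ _ (hG𝔟 l), hCa, hΨsum _ _ hs1] at h3
    rw [h3]
    refine Finset.sum_congr rfl fun i _ => ?_
    rw [hΨmul _ _ (Ideal.sum_mem _ fun j _ => Ideal.mul_mem_left _ _ (hG𝔟 j)), hΨsum _ _ (fun j => Ideal.mul_mem_left _ _ (hG𝔟 j))]
    congr 1
    exact Finset.sum_congr rfl fun j _ => hΨmul _ _ (hG𝔟 j)
  have hFl : ∀ l, ∃ j : ℕ, a ^ (j + c) • x l = a ^ j • δ (F l) := by
    intro l
    have hFm : F l ∈ 𝔟 := hF ▸ Ideal.subset_span ⟨l, rfl⟩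
    obtain ⟨j, hj⟩ := hfgen (red (F l)) (by rw [hπ]; exact Ideal.Quotient.eq_zero_iff_mem.mpr hFm)
    obtain ⟨r, hr⟩ := Ideal.mem_span_range_iff_exists_fun.mp hj
    choose r' hr' using fun i => hreds (r i)
    have hsum : ∑ i, r' i * G i ∈ 𝔟 := Ideal.sum_mem _ fun i _ => Ideal.mul_mem_left _ _ (hG𝔟 i)
    have he : red (C a ^ j * F l) = red (∑ i, r' i * G i) := by
      rw [map_mul, map_pow, map_sum, show red (C a) = C t from map_C _ _, ← hr]
      simp [hr', hG]
    refine ⟨j, ?_⟩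
    have hx : Ψ (F l) = x l := by
      rw [show F l = ∑ m, (Pi.single l 1 : Fin s → P) m * F m by simp [Pi.single_apply], hΨ, Finset.sum_eq_single l]
      · rw [Pi.single_eq_same, map_one]; exact one_smul R0 _
      · intro m _ hm
        rw [Pi.single_eq_of_ne hm, map_zero]; exact zero_smul R0 (x m)
      · simp
    have h1 : a ^ j • x l = ∑ i, Ideal.Quotient.mk 𝔟 (r' i) • Ψ (G i) := by
      rw [← hx, ← hCa, ← hΨmul _ _ hFm, (hcong _ _ hsum he).2, hΨsum _ _ (fun i => Ideal.mul_mem_left _ _ (hG𝔟 i))]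
      exact Finset.sum_congr rfl fun i _ => hΨmul _ _ (hG𝔟 i)
    have hder : ∀ i, Ideal.Quotient.mk 𝔟 (C a ^ j * pderiv i (F l)) =
        ∑ m, Ideal.Quotient.mk 𝔟 (r' m) * Ideal.Quotient.mk 𝔟 (pderiv i (G m)) := by
      intro i
      have e1 : red (C a ^ j * pderiv i (F l)) = red (pderiv i (∑ m, r' m * G m)) := by
        rw [show red (pderiv i (∑ m, r' m * G m)) = pderiv i (red (∑ m, r' m * G m)) from pderiv_map.symm, ← he,
          show pderiv i (red (C a ^ j * F l)) = red (pderiv i (C a ^ j * F l)) from pderiv_map, ← map_pow, pderiv_C_mul]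
      rw [← hπ, e1, hπ, map_sum, map_sum]
      refine Finset.sum_congr rfl fun m _ => ?_
      rw [pderiv_mul, map_add, map_mul, map_mul, Ideal.Quotient.eq_zero_iff_mem.mpr (hG𝔟 m), mul_zero, zero_add]
    calc a ^ (j + c) • x l = a ^ c • a ^ j • x l := by rw [← mul_smul, ← pow_add, add_comm]
      _ = ∑ m, Ideal.Quotient.mk 𝔟 (r' m) • δ (G m) := by
        rw [h1, Finset.smul_sum]
        exact Finset.sum_congr rfl fun m _ => by rw [smul_comm, hstep]
      _ = a ^ j • δ (F l) := by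
        rw [← hCa, Finset.smul_sum]
        simp only [δ, Finset.smul_sum, smul_smul, ← map_mul (Ideal.Quotient.mk 𝔟)]
        rw [Finset.sum_comm]
        refine Finset.sum_congr rfl fun i _ => ?_
        rw [hder i, Finset.sum_smul]
        simp only [map_mul]
  choose j hj using hFl
  refine ⟨Finset.univ.sup j + c, fun i => a ^ Finset.univ.sup j • w i, fun l => ?_⟩
  obtain ⟨e, he⟩ := Nat.exists_eq_add_of_le (Finset.le_sup (f := j) (Finset.mem_univ l))
  have h1 : ∑ i, Ideal.Quotient.mk 𝔟 (pderiv i (F l)) • a ^ Finset.univ.sup j • w i = a ^ Finset.univ.sup j • δ (F l) := by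
    rw [Finset.smul_sum]
    exact Finset.sum_congr rfl fun i _ => smul_comm _ _ _
  rw [h1, he, add_comm (j l) e, pow_add, mul_smul, ← hj l, ← mul_smul, ← pow_add, add_assoc]

/-- Away from the ideal the system is solvable. -/
theorem exists_pow_smul_sol (a : A) [Algebra.Etale (A ⧸ K) (Localization.Away (algebraMap A (MvPolynomial (Fin d) A ⧸ 𝔟) a))]
    {F : Fin s → MvPolynomial (Fin d) A} (hF : Ideal.span (Set.range F) = 𝔟) {k : Fin u' → K}
    (L : Submodule (MvPolynomial (Fin d) A ⧸ 𝔟) ((Fin s → MvPolynomial (Fin d) A ⧸ 𝔟) × (Fin u' → MvPolynomial (Fin d) A ⧸ 𝔟)))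
    (hL : L.FG)
    (hrel : ∀ z ∈ L, ∃ (q : Fin s → MvPolynomial (Fin d) A) (r : Fin u' → MvPolynomial (Fin d) A),
      (∑ l, q l * F l = ∑ i, r i * C (k i : A)) ∧
        z = (fun l => Ideal.Quotient.mk 𝔟 (q l), fun i => Ideal.Quotient.mk 𝔟 (r i))) :
    ∃ (e : ℕ) (n : Fin s → (MvPolynomial (Fin d) A ⧸ 𝔟) ⊗[A] K), ∀ z ∈ L,
      ∑ l, z.1 l • n l = a ^ e • ∑ i, z.2 i • ((1 : MvPolynomial (Fin d) A ⧸ 𝔟) ⊗ₜ[A] k i) := by
  classical
  let P := MvPolynomial (Fin d) A
  let R0 := P ⧸ 𝔟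
  let R0a := Localization.Away (algebraMap A R0 a)
  obtain ⟨E, _, _, hE, ⟨e⟩⟩ := H9Hens.exists_etale_lift_quotient A K R0a
  haveI := hE
  let ρ : E →ₐ[A] R0a := ((e.toAlgHom).restrictScalars A).comp Algebra.TensorProduct.includeRight
  have hρs : Function.Surjective ρ := fun y => by
    obtain ⟨z, rfl⟩ := e.surjective y
    induction z using TensorProduct.induction_on with
    | zero => exact ⟨0, by rw [map_zero, map_zero]⟩
    | tmul q b =>
      obtain ⟨q, rfl⟩ := Ideal.Quotient.mk_surjective q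
      refine ⟨q • b, congrArg e ?_⟩
      show (1 : A ⧸ K) ⊗ₜ[A] (q • b) = _
      rw [← TensorProduct.smul_tmul]
      congr 1
      rw [Algebra.smul_def, mul_one]
      rfl
    | add p q hp hq =>
      obtain ⟨b, hb⟩ := hp
      obtain ⟨b', hb'⟩ := hq
      exact ⟨b + b', by rw [map_add, map_add, hb, hb']⟩
  have hρker : ∀ y, ρ y = 0 → y ∈ K.map (algebraMap A E) := fun y hy => by
    have h1 : (1 : A ⧸ K) ⊗ₜ[A] y = 0 := e.injective (hy.trans (map_zero e).symm)
    have h2 := congrArg (TensorProduct.quotTensorEquivQuotSMul E K) h1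
    rw [map_zero] at h2
    have h3 : Submodule.Quotient.mk (p := K • (⊤ : Submodule A E)) ((1 : A) • y) = 0 := by
      rw [← h2]
      exact (TensorProduct.quotTensorEquivQuotSMul_mk_tmul K 1 y).symm
    rwa [one_smul, Submodule.Quotient.mk_eq_zero, Ideal.smul_top_eq_map, Submodule.restrictScalars_mem] at h3
  choose y hy using fun i => hρs (algebraMap R0 R0a (Ideal.Quotient.mk 𝔟 (X i)))
  let gE : P →ₐ[A] E := aeval y
  have hgE : ∀ p, ρ (gE p) = algebraMap R0 R0a (Ideal.Quotient.mk 𝔟 p) := fun p => by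
    refine AlgHom.congr_fun (φ₁ := ρ.comp gE) (φ₂ := (IsScalarTower.toAlgHom A R0 R0a).comp (Ideal.Quotient.mkₐ A 𝔟))
      (MvPolynomial.algHom_ext fun i => ?_) p
    show ρ (gE (X i)) = _
    rw [aeval_X, hy]
    rfl
  have hFK : ∀ l, gE (F l) ∈ K.map (algebraMap A E) := fun l => hρker _ (by
    rw [hgE, Ideal.Quotient.eq_zero_iff_mem.mpr (hF ▸ Ideal.subset_span ⟨l, rfl⟩), map_zero])
  choose z hz using fun l => exists_mult_eq K E (gE (F l)) (hFK l)
  let μ : R0 ⊗[A] K →ₗ[A] R0a ⊗[A] K := (IsScalarTower.toAlgHom A R0 R0a).toLinearMap.rTensor K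
  haveI : IsLocalization (Algebra.algebraMapSubmonoid R0 (Submonoid.powers a)) R0a := by
    rw [show Algebra.algebraMapSubmonoid R0 (Submonoid.powers a) = Submonoid.powers (algebraMap A R0 a) by
      rw [Algebra.algebraMapSubmonoid, Submonoid.map_powers]]
    infer_instance
  haveI : IsLocalizedModule (Submonoid.powers a) (IsScalarTower.toAlgHom A R0 R0a).toLinearMap :=
    isLocalizedModule_iff_isLocalization.mpr inferInstance
  haveI : IsLocalizedModule (Submonoid.powers a) μ :=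
    IsLocalizedModule.rTensor (R := A) (A := A) (S := Submonoid.powers a) (IsScalarTower.toAlgHom A R0 R0a).toLinearMap
  let ν : E ⊗[A] K →ₗ[A] R0a ⊗[A] K := ρ.toLinearMap.rTensor K
  have hν : ∀ (b : E) (v : E ⊗[A] K), ν (b • v) = ρ b • ν v := fun b v => by
    induction v using TensorProduct.induction_on with
    | zero => simp
    | tmul c κ =>
      show ρ (b * c) ⊗ₜ[A] κ = (ρ b * ρ c) ⊗ₜ[A] κ
      rw [map_mul]
    | add p q hp hq => simp only [smul_add, map_add, hp, hq]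
  have hμ : ∀ (b : R0) (v : R0 ⊗[A] K), μ (b • v) = algebraMap R0 R0a b • μ v := fun b v => by
    induction v using TensorProduct.induction_on with
    | zero => simp
    | tmul c κ =>
      show (algebraMap R0 R0a (b * c)) ⊗ₜ[A] κ = (algebraMap R0 R0a b * algebraMap R0 R0a c) ⊗ₜ[A] κ
      rw [map_mul]
    | add p q hp hq => simp only [smul_add, map_add, hp, hq]
  have hsur : ∀ l, ∃ (j : ℕ) (v : R0 ⊗[A] K), μ v = a ^ j • ν (z l) := fun l => by
    obtain ⟨⟨v, ⟨_, j, rfl⟩⟩, hv⟩ := IsLocalizedModule.surj (Submonoid.powers a) μ (ν (z l))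
    exact ⟨j, v, hv.symm⟩
  choose j v hv using hsur
  let J := Finset.univ.sup j
  let n : Fin s → R0 ⊗[A] K := fun l => a ^ (J - j l) • v l
  have hn : ∀ l, μ (n l) = a ^ J • ν (z l) := fun l => by
    rw [map_smul, hv, smul_smul, ← pow_add, Nat.sub_add_cancel (Finset.le_sup (Finset.mem_univ l))]
  obtain ⟨S, hS⟩ := hL
  have hgen : ∀ w ∈ L, ∃ e : ℕ,
      a ^ e • (∑ l, w.1 l • n l) = a ^ (e + J) • ∑ i, w.2 i • ((1 : R0) ⊗ₜ[A] k i) := by
    intro w hw
    obtain ⟨q, r, hqr, rfl⟩ := hrel w hw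
    have h1 : ∑ l, gE (q l) • z l = ∑ i, gE (r i) • ((1 : E) ⊗ₜ[A] k i) := by
      apply mult_injective (K := K) (C := E)
      rw [map_sum, map_sum]
      simp only [mult_smul, hz, mult_tmul, one_mul]
      have := congrArg gE hqr
      have hC : ∀ c : A, gE (C c) = algebraMap A E c := fun c => aeval_C _ _
      simp only [map_sum, map_mul, hC] at this
      exact this
    have h2 : μ (∑ l, Ideal.Quotient.mk 𝔟 (q l) • n l) = μ (a ^ J • ∑ i, Ideal.Quotient.mk 𝔟 (r i) • ((1 : R0) ⊗ₜ[A] k i)) := by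
      rw [map_sum, map_smul, map_sum]
      simp only [hμ, hn, ← hgE]
      rw [Finset.sum_congr rfl fun l _ => smul_comm (ρ (gE (q l))) (a ^ J) (ν (z l)), ← Finset.smul_sum]
      congr 1
      rw [Finset.sum_congr rfl fun l _ => (hν (gE (q l)) (z l)).symm, ← map_sum, h1, map_sum]
      refine Finset.sum_congr rfl fun i _ => ?_
      rw [hν]
      simp [ν, μ]
    obtain ⟨⟨_, e, rfl⟩, he⟩ := (IsLocalizedModule.eq_iff_exists (Submonoid.powers a) μ).mp h2
    refine ⟨e, ?_⟩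
    rw [pow_add, mul_smul]
    exact he
  choose! e' he' using hgen
  refine ⟨S.sup e' + J, fun l => a ^ S.sup e' • n l, fun w hw => ?_⟩
  rw [← hS] at hw
  refine Submodule.span_induction (p := fun w _ => ∑ l, w.1 l • a ^ S.sup e' • n l =
    a ^ (S.sup e' + J) • ∑ i, w.2 i • ((1 : R0) ⊗ₜ[A] k i)) ?_ ?_ ?_ ?_ hw
  · intro w hw
    obtain ⟨m, hm⟩ := Nat.exists_eq_add_of_le (Finset.le_sup (f := e') hw)
    rw [Finset.sum_congr rfl fun l _ => smul_comm (w.1 l) (a ^ S.sup e') (n l), ← Finset.smul_sum,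
      hm, add_comm (e' w) m, pow_add, mul_smul, he' w (hS ▸ Submodule.subset_span hw), ← mul_smul, ← pow_add, add_assoc]
  · simp only [Prod.fst_zero, Prod.snd_zero, Pi.zero_apply]
    exact (Finset.sum_eq_zero fun l _ => zero_smul R0 (a ^ S.sup e' • n l)).trans
      ((congrArg (a ^ (S.sup e' + J) • ·) (Finset.sum_eq_zero fun i _ => zero_smul R0 ((1 : R0) ⊗ₜ[A] k i))).trans (smul_zero _)).symm
  · intro p q _ _ hp hq
    simp only [Prod.fst_add, Prod.snd_add, Pi.add_apply, add_smul, Finset.sum_add_distrib, hp, hq, smul_add]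
  · intro r p _ hp
    simp only [Prod.smul_fst, Prod.smul_snd, Pi.smul_apply, smul_eq_mul, ← smul_smul, ← Finset.smul_sum]
    rw [hp, smul_comm]

end Groth.Agent.H24Adic.NilLift
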