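import Groth.Agent.H24Adic.NilLift.Torsion
import Groth.Agent.H24Adic.NilLift.Mult

/-!
Multiplication by a square-zero ideal seen over a base mapping to the quotient.
-/

set_option autoImplicit false
set_option linter.style.haveILetI false

universe u

open TensorProduct

namespace Groth.Agent.H24Adic.NilLift

variable {A : Type u} [CommRing A] (I K : Ideal A) {P R S S0 : Type u} [CommRing P] [CommRing R] [CommRing S] [CommRing S0]
  [Algebra A P] [Algebra A R] [Algebra A S] [Algebra A S0] [Algebra R S0] [IsScalarTower A R S0]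

/-- The multiplication map on `S0 ⊗ (R ⊗ K)` into `S`. -/
theorem exists_theta (hK : ∀ x ∈ K, ∀ y ∈ K, x * y = 0) (π : P →ₐ[A] R) (hπ : Function.Surjective π)
    (mk0 : S →ₐ[A] S0) (hmk : Function.Surjective mk0) (hkmk : RingHom.ker mk0.toRingHom ≤ K.map (algebraMap A S))
    (g : P →ₐ[A] S) (hg : ∀ p, mk0 (g p) = algebraMap R S0 (π p))
    (hflat : ∀ a ∈ I, Module.Flat A (Localization.Away (algebraMap A S a))) :
    ∃ Θ : S0 ⊗[R] (R ⊗[A] K) →ₗ[A] S,
      (∀ (c : S) (z : S0 ⊗[R] (R ⊗[A] K)), Θ (mk0 c • z) = c * Θ z) ∧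
      (∀ (p : P) (z : S0 ⊗[R] (R ⊗[A] K)), Θ (π p • z) = g p * Θ z) ∧
      (∀ (p : P) (n : R ⊗[A] K), Θ ((1 : S0) ⊗ₜ (π p • n)) = g p * Θ ((1 : S0) ⊗ₜ n)) ∧
      (∀ κ : K, Θ ((1 : S0) ⊗ₜ ((1 : R) ⊗ₜ κ)) = algebraMap A S κ) ∧
      (∀ z, Θ z = 0 → Tors I z) ∧ (∀ y ∈ K.map (algebraMap A S), ∃ z, Θ z = y) ∧
      (∀ z, Θ z ∈ K.map (algebraMap A S)) := by
  let ι : S ⊗[A] K →ₗ[A] S0 ⊗[A] K := mk0.toLinearMap.rTensor K
  have hι : Function.Bijective ι := ⟨rTensor_injective hK mk0 hkmk hmk, LinearMap.rTensor_surjective _ hmk⟩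
  let e0 := LinearEquiv.ofBijective ι hι
  let J : S0 ⊗[R] (R ⊗[A] K) ≃ₗ[A] S0 ⊗[A] K := (AlgebraTensorModule.cancelBaseChange A R S0 S0 K).restrictScalars A
  let Θ : S0 ⊗[R] (R ⊗[A] K) →ₗ[A] S :=
    (mult K S) ∘ₗ (e0.symm : S0 ⊗[A] K →ₗ[A] S ⊗[A] K) ∘ₗ (J : S0 ⊗[R] (R ⊗[A] K) →ₗ[A] S0 ⊗[A] K)
  have ht : ∀ (c : S) (p : P) (κ : K), Θ (mk0 c ⊗ₜ (π p ⊗ₜ κ)) = c * g p * algebraMap A S κ := fun c p κ => by
    have hJ : J (mk0 c ⊗ₜ (π p ⊗ₜ κ)) = e0 ((c * g p) ⊗ₜ κ) := by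
      show (AlgebraTensorModule.cancelBaseChange A R S0 S0 K) (mk0 c ⊗ₜ (π p ⊗ₜ κ)) = mk0 (c * g p) ⊗ₜ κ
      rw [AlgebraTensorModule.cancelBaseChange_tmul, Algebra.smul_def, map_mul, hg, mul_comm]
    show mult K S (e0.symm (J (mk0 c ⊗ₜ (π p ⊗ₜ κ)))) = _
    rw [hJ, LinearEquiv.symm_apply_apply, mult_tmul]
  have hc : ∀ (c : S) (z : S0 ⊗[R] (R ⊗[A] K)), Θ (mk0 c • z) = c * Θ z := fun c z => by
    induction z using TensorProduct.induction_on with
    | zero => rw [smul_zero, map_zero, mul_zero]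
    | add a b ha hb => rw [smul_add, map_add, ha, hb, map_add, mul_add]
    | tmul y n =>
      obtain ⟨y, rfl⟩ := hmk y
      rw [TensorProduct.smul_tmul', smul_eq_mul]
      induction n using TensorProduct.induction_on with
      | zero => rw [TensorProduct.tmul_zero, TensorProduct.tmul_zero, map_zero, mul_zero]
      | add a b ha hb => rw [TensorProduct.tmul_add, map_add, ha, hb, TensorProduct.tmul_add, map_add, mul_add]
      | tmul r κ =>
        obtain ⟨p, rfl⟩ := hπ r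
        rw [← map_mul, ht, ht]
        ring
  have hr : ∀ (p : P) (z : S0 ⊗[R] (R ⊗[A] K)), Θ (π p • z) = g p * Θ z := fun p z => by
    rw [← hc, hg, algebraMap_smul]
  refine ⟨Θ, hc, hr, fun p n => by rw [TensorProduct.tmul_smul, hr], fun κ => ?_, fun z hz a ha => ?_, fun y hy => ?_, fun z => ?_⟩
  · have := ht 1 1 κ
    rwa [map_one, map_one, map_one, one_mul, one_mul] at this
  · haveI := hflat a ha
    obtain ⟨k, hk⟩ := exists_pow_smul_eq_zero a (e0.symm (J z)) hz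
    exact ⟨k, J.injective (e0.symm.injective (by rw [map_smul, map_smul, hk, map_zero, map_zero]))⟩
  · obtain ⟨w, rfl⟩ := exists_mult_eq K S y hy
    exact ⟨J.symm (e0 w), by simp [Θ]⟩
  · show mult K S (e0.symm (J z)) ∈ _
    generalize e0.symm (J z) = v
    induction v using TensorProduct.induction_on with
    | zero => rw [map_zero]; exact zero_mem _
    | tmul c κ => rw [mult_tmul]; exact Ideal.mul_mem_left _ _ (Ideal.mem_map_of_mem _ κ.2)
    | add a b ha hb => rw [map_add]; exact add_mem ha hb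

/-- Every element of the base change of `K` comes from generators. -/
theorem exists_sum_gen {n : ℕ} (π : P →ₐ[A] R) (hπ : Function.Surjective π) (k : Fin n → K)
    (hk : Submodule.span A (Set.range k) = ⊤) (x : R ⊗[A] K) :
    ∃ r : Fin n → P, x = ∑ i, π (r i) • ((1 : R) ⊗ₜ[A] k i) := by
  induction x using TensorProduct.induction_on with
  | zero => exact ⟨0, by simp⟩
  | add a b ha hb =>
    obtain ⟨r, rfl⟩ := ha
    obtain ⟨r', rfl⟩ := hb
    exact ⟨r + r', by rw [← Finset.sum_add_distrib]; simp [add_smul]⟩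
  | tmul r κ =>
    obtain ⟨p, rfl⟩ := hπ r
    obtain ⟨f, hf⟩ := (Submodule.mem_span_range_iff_exists_fun A).mp (hk ▸ trivial : κ ∈ Submodule.span A (Set.range k))
    refine ⟨fun i => p * algebraMap A P (f i), ?_⟩
    rw [← hf, TensorProduct.tmul_sum]
    refine Finset.sum_congr rfl fun i _ => ?_
    rw [TensorProduct.smul_tmul', smul_eq_mul, mul_one, ← TensorProduct.smul_tmul]
    congr 1
    rw [Algebra.smul_def, map_mul, π.commutes, mul_comm]

end Groth.Agent.H24Adic.NilLift
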