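import Mathlib

/-!
Torsion modules along flat maps which are isomorphisms modulo an ideal, and descent of solutions of
linear systems whose obstructions are torsion.
-/

set_option autoImplicit false
set_option linter.style.haveILetI false

universe u

open TensorProduct

namespace Groth.Agent.H24Adic.NilLift

variable {A R : Type u} [CommRing A] [CommRing R] [Algebra A R] (I : Ideal A)

/-- An element killed by a power of each element of the ideal. -/
def Tors {M : Type u} [AddCommGroup M] [Module A M] (x : M) : Prop :=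
  ∀ a ∈ I, ∃ k : ℕ, a ^ k • x = 0

theorem Tors.map {M M' : Type u} [AddCommGroup M] [Module A M] [AddCommGroup M'] [Module A M'] {x : M}
    (hx : Tors I x) (f : M →ₗ[A] M') : Tors I (f x) := fun a ha => by
  obtain ⟨k, hk⟩ := hx a ha
  exact ⟨k, by rw [← map_smul, hk, map_zero]⟩

theorem exists_pow_smul [IsNoetherianRing A] {M : Type u} [AddCommGroup M] [Module A M] {x : M} (hx : Tors I x) :
    ∃ m : ℕ, ∀ i ∈ I ^ m, i • x = 0 := by
  have hle : I ≤ Ideal.radical (LinearMap.ker (LinearMap.toSpanSingleton A M x)) := fun a ha => by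
    obtain ⟨k, hk⟩ := hx a ha
    exact ⟨k, hk⟩
  obtain ⟨m, hm⟩ := Ideal.exists_pow_le_of_le_radical_of_fg hle (IsNoetherian.noetherian I)
  exact ⟨m, fun i hi => hm hi⟩

theorem tors_of_pow_smul {M : Type u} [AddCommGroup M] [Module A M] {x : M} {m : ℕ}
    (hx : ∀ i ∈ I ^ m, i • x = 0) : Tors I x := fun a ha => ⟨m, hx _ (Ideal.pow_mem_pow ha m)⟩

variable {C : Type u} [CommRing C] [Algebra R C] [Algebra A C] [IsScalarTower A R C]

/-- The map is bijective modulo the ideal. -/
def IsoMod : Prop :=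
  (∀ c : C, ∃ r : R, algebraMap R C r - c ∈ I.map (algebraMap A C)) ∧
    ∀ r : R, algebraMap R C r ∈ I.map (algebraMap A C) → r ∈ I.map (algebraMap A R)

variable {I}

theorem IsoMod.exists_sub_mem (h : IsoMod I (R := R) (C := C)) (m : ℕ) (c : C) :
    ∃ r : R, algebraMap R C r - c ∈ (I ^ m).map (algebraMap A C) := by
  induction m with
  | zero => exact ⟨0, by rw [pow_zero, Ideal.one_eq_top, Ideal.map_top]; trivial⟩
  | succ m ih =>
    obtain ⟨r, hr⟩ := ih
    suffices ∀ y ∈ (I ^ m).map (algebraMap A C), ∃ s : R, algebraMap R C s - y ∈ (I ^ (m + 1)).map (algebraMap A C) by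
      obtain ⟨s, hs⟩ := this _ hr
      refine ⟨r - s, ?_⟩
      rw [map_sub, show algebraMap R C r - algebraMap R C s - c = -(algebraMap R C s - (algebraMap R C r - c)) by ring]
      exact neg_mem hs
    intro y hy
    refine Submodule.span_induction (p := fun y _ => ∃ s : R, algebraMap R C s - y ∈ (I ^ (m + 1)).map (algebraMap A C))
      ?_ ?_ ?_ ?_ hy
    · rintro _ ⟨i, -, rfl⟩
      exact ⟨algebraMap A R i, by rw [← IsScalarTower.algebraMap_apply, sub_self]; exact zero_mem _⟩
    · exact ⟨0, by rw [map_zero, sub_self]; exact zero_mem _⟩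
    · rintro a b _ _ ⟨s, hs⟩ ⟨t, ht⟩
      exact ⟨s + t, by rw [map_add, add_sub_add_comm]; exact add_mem hs ht⟩
    · rintro c' a ha ⟨s, hs⟩
      obtain ⟨r', hr'⟩ := h.1 c'
      refine ⟨r' * s, ?_⟩
      rw [map_mul, smul_eq_mul, show algebraMap R C r' * algebraMap R C s - c' * a =
        algebraMap R C r' * (algebraMap R C s - a) + (algebraMap R C r' - c') * a by ring]
      refine add_mem (Ideal.mul_mem_left _ _ hs) ?_
      rw [pow_succ', Ideal.map_mul]
      exact Ideal.mul_mem_mul hr' ha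

theorem IsoMod.one_mem (h : IsoMod I (R := R) (C := C)) (a : Ideal R) (ha : I.map (algebraMap A R) ≤ a)
    (h1 : a.map (algebraMap R C) = ⊤) : a = ⊤ := by
  have key : ∀ y ∈ a.map (algebraMap R C), ∃ s ∈ a, algebraMap R C s - y ∈ I.map (algebraMap A C) := by
    intro y hy
    refine Submodule.span_induction (p := fun y _ => ∃ s ∈ a, algebraMap R C s - y ∈ I.map (algebraMap A C)) ?_ ?_ ?_ ?_ hy
    · rintro _ ⟨i, hi, rfl⟩
      exact ⟨i, hi, by rw [sub_self]; exact zero_mem _⟩
    · exact ⟨0, zero_mem _, by rw [map_zero, sub_self]; exact zero_mem _⟩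
    · rintro p q _ _ ⟨s, hs, hs'⟩ ⟨t, ht, ht'⟩
      exact ⟨s + t, add_mem hs ht, by rw [map_add, add_sub_add_comm]; exact add_mem hs' ht'⟩
    · rintro c' p _ ⟨s, hs, hs'⟩
      obtain ⟨r', hr'⟩ := h.1 c'
      refine ⟨r' * s, a.mul_mem_left _ hs, ?_⟩
      rw [map_mul, smul_eq_mul, show algebraMap R C r' * algebraMap R C s - c' * p =
        algebraMap R C r' * (algebraMap R C s - p) + (algebraMap R C r' - c') * p by ring]
      exact add_mem (Ideal.mul_mem_left _ _ hs') (Ideal.mul_mem_right _ _ hr')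
  obtain ⟨s, hs, hs'⟩ := key 1 (h1 ▸ trivial)
  refine a.eq_top_iff_one.mpr ?_
  have h2 : s - 1 ∈ I.map (algebraMap A R) := h.2 _ (by rw [map_sub, map_one]; exact hs')
  simpa using sub_mem hs (ha h2)

theorem IsoMod.tmul_surjective [IsNoetherianRing A] (h : IsoMod I (R := R) (C := C)) {M : Type u} [AddCommGroup M]
    [Module R M] [Module A M] [IsScalarTower A R M] (hM : ∀ x : M, Tors I x) (z : C ⊗[R] M) :
    ∃ x : M, z = 1 ⊗ₜ x := by
  induction z using TensorProduct.induction_on with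
  | zero => exact ⟨0, (TensorProduct.tmul_zero _ _).symm⟩
  | add a b ha hb =>
    obtain ⟨x, rfl⟩ := ha
    obtain ⟨y, rfl⟩ := hb
    exact ⟨x + y, (TensorProduct.tmul_add _ _ _).symm⟩
  | tmul c x =>
    obtain ⟨m, hm⟩ := exists_pow_smul I (hM x)
    obtain ⟨r, hr⟩ := h.exists_sub_mem m c
    refine ⟨r • x, ?_⟩
    rw [← TensorProduct.smul_tmul, Algebra.smul_def, mul_one]
    refine (sub_eq_zero.mp ?_).symm
    rw [← TensorProduct.sub_tmul]
    refine Submodule.span_induction (p := fun y _ => ∀ c' : C, (c' * y) ⊗ₜ[R] x = 0) ?_ ?_ ?_ ?_ hr 1 |> fun e => by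
      rwa [one_mul] at e
    · rintro _ ⟨i, hi, rfl⟩ c'
      rw [IsScalarTower.algebraMap_apply A R C, mul_comm, ← Algebra.smul_def, TensorProduct.smul_tmul,
        algebraMap_smul, hm i hi, TensorProduct.tmul_zero]
    · intro c'; rw [mul_zero, TensorProduct.zero_tmul]
    · intro a b _ _ ha hb c'; rw [mul_add, TensorProduct.add_tmul, ha, hb, add_zero]
    · intro d a _ ha c'; rw [smul_eq_mul, ← mul_assoc]; exact ha _

theorem IsoMod.eq_zero_of_tmul [IsNoetherianRing A] [Module.Flat R C] (h : IsoMod I (R := R) (C := C)) {M : Type u}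
    [AddCommGroup M] [Module R M] [Module A M] [IsScalarTower A R M] {x : M} (hx : Tors I x)
    (h0 : (1 : C) ⊗ₜ[R] x = 0) : x = 0 := by
  let ann : Ideal R := LinearMap.ker (LinearMap.toSpanSingleton R M x)
  let f : (R ⧸ ann) →ₗ[R] M := Submodule.liftQ ann (LinearMap.toSpanSingleton R M x) le_rfl
  have hf : Function.Injective f := LinearMap.ker_eq_bot.mp (Submodule.ker_liftQ_eq_bot _ _ _ le_rfl)
  have h1 : (1 : C) ⊗ₜ[R] (Submodule.Quotient.mk (p := ann) (1 : R)) = 0 := by
    refine Module.Flat.lTensor_preserves_injective_linearMap (M := C) f hf ?_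
    rw [LinearMap.lTensor_tmul, map_zero]
    show (1 : C) ⊗ₜ[R] f (Submodule.Quotient.mk 1) = 0
    rw [Submodule.liftQ_apply, LinearMap.toSpanSingleton_apply, one_smul]
    exact h0
  have htop : ann.map (algebraMap R C) = ⊤ := by
    have h2 := congrArg (TensorProduct.tensorQuotEquivQuotSMul C ann) h1
    rw [map_zero] at h2
    rw [Ideal.eq_top_iff_one]
    have h3 : (Submodule.Quotient.mk (p := ann • (⊤ : Submodule R C)) ((1 : R) • (1 : C))) = 0 := by
      rw [← h2]
      exact (TensorProduct.tensorQuotEquivQuotSMul_tmul_mk ann (1 : C) 1).symm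
    rwa [one_smul, Submodule.Quotient.mk_eq_zero, Ideal.smul_top_eq_map, Submodule.restrictScalars_mem] at h3
  obtain ⟨m, hm⟩ := exists_pow_smul I hx
  have hsup : ann ⊔ I.map (algebraMap A R) = ⊤ :=
    h.one_mem _ le_sup_right (eq_top_iff.mpr (htop ▸ Ideal.map_mono le_sup_left))
  have hpow : ann ⊔ (I.map (algebraMap A R)) ^ m = ⊤ := Ideal.sup_pow_eq_top hsup
  have hle : (I.map (algebraMap A R)) ^ m ≤ ann := by
    rw [← Ideal.map_pow, Ideal.map_le_iff_le_comap]
    intro i hi
    show algebraMap A R i • x = 0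
    rw [algebraMap_smul]
    exact hm i hi
  rw [sup_eq_left.mpr hle, Ideal.eq_top_iff_one] at hpow
  simpa [ann] using hpow

/-- Torsion of a flat base change comes from torsion. -/
theorem IsoMod.exists_tors [IsNoetherianRing A] [Module.Flat R C] (h : IsoMod I (R := R) (C := C)) {N : Type u}
    [AddCommGroup N] [Module R N] [Module A N] [IsScalarTower A R N] {z : C ⊗[R] N} (hz : Tors I z) :
    ∃ n : N, Tors I n ∧ z = 1 ⊗ₜ n := by
  classical
  obtain ⟨m, hm⟩ := exists_pow_smul I hz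
  obtain ⟨S, hS⟩ := (IsNoetherian.noetherian (I ^ m) : (I ^ m).FG)
  let f : N →ₗ[R] (S → N) := LinearMap.pi fun i => (algebraMap A R (i : A)) • LinearMap.id
  let T := LinearMap.ker f
  have hT : ∀ x : T, Tors I x := fun x => by
    refine tors_of_pow_smul I (m := m) fun i hi => Subtype.ext ?_
    rw [← hS] at hi
    refine Submodule.span_induction (p := fun i _ => ((i • x : T) : N) = 0) ?_ ?_ ?_ ?_ hi
    · intro s hs
      have := congrFun (LinearMap.mem_ker.mp x.2) ⟨s, hs⟩
      simpa [f, algebraMap_smul] using this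
    · simp
    · intro a b _ _ ha hb; rw [add_smul, Submodule.coe_add, ha, hb, add_zero]
    · intro a b _ hb; rw [smul_eq_mul, mul_smul, Submodule.coe_smul_of_tower, hb, smul_zero]
  have hz0 : f.lTensor C z = 0 := by
    apply (TensorProduct.piRight R C C (fun _ : S => N)).injective
    rw [map_zero]
    funext i
    have e : ∀ z : C ⊗[R] N, TensorProduct.piRight R C C (fun _ : S => N) (f.lTensor C z) i = (i : A) • z := fun z => by
      induction z using TensorProduct.induction_on with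
      | zero => simp
      | tmul c n => simp [f, TensorProduct.piRight_apply, algebraMap_smul]
      | add a b ha hb => simp only [map_add, Pi.add_apply, ha, hb, smul_add]
    rw [e]
    exact hm i (hS ▸ Submodule.subset_span i.2)
  obtain ⟨w, rfl⟩ := ((Module.Flat.lTensor_exact C (f := T.subtype) (g := f) (LinearMap.exact_subtype_ker_map f)) z).mp hz0
  obtain ⟨x, rfl⟩ := h.tmul_surjective hT w
  exact ⟨x, (hT x).map I ((T.subtype).restrictScalars A), rfl⟩

/-- A solution of a linear system over the flat extension descends, up to the differential, if the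
obstructions are torsion. -/
theorem IsoMod.descend [IsNoetherianRing A] [Module.Flat R C] (h : IsoMod I (R := R) (C := C)) {X₀ X Y : Type u}
    [AddCommGroup X₀] [Module R X₀] [AddCommGroup X] [Module R X] [Module A X] [IsScalarTower A R X]
    [AddCommGroup Y] [Module R Y] [Module A Y] [IsScalarTower A R Y]
    (D : X₀ →ₗ[R] X) (Φ : X →ₗ[R] Y) (hD : ∀ w, Φ (D w) = 0) (v : Y)
    (hv : ∀ a ∈ I, ∃ (k : ℕ) (x : X), Φ x = a ^ k • v)
    (hH : ∀ x, Φ x = 0 → ∀ a ∈ I, ∃ (k : ℕ) (w : X₀), D w = a ^ k • x)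
    (γ : C ⊗[R] X) (hγ : Φ.lTensor C γ = 1 ⊗ₜ v) :
    ∃ (x : X) (w : C ⊗[R] X₀), Φ x = v ∧ γ + D.lTensor C w = 1 ⊗ₜ x := by
  -- existence
  let P := LinearMap.range Φ
  have hq : Tors I (Submodule.Quotient.mk (p := P) v) := fun a ha => by
    obtain ⟨k, x, hx⟩ := hv a ha
    refine ⟨k, ?_⟩
    rw [← Submodule.Quotient.mk_smul, Submodule.Quotient.mk_eq_zero]
    exact ⟨x, hx⟩
  have hq0 : (1 : C) ⊗ₜ[R] Submodule.Quotient.mk (p := P) v = 0 := by
    show P.mkQ.lTensor C (1 ⊗ₜ v) = 0
    rw [← hγ, ← LinearMap.lTensor_comp_apply, show P.mkQ.comp Φ = 0 from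
      LinearMap.ext fun x => (Submodule.Quotient.mk_eq_zero _).mpr ⟨x, rfl⟩, LinearMap.lTensor_zero, LinearMap.zero_apply]
  obtain ⟨x₀, hx₀⟩ := (Submodule.Quotient.mk_eq_zero P).mp (h.eq_zero_of_tmul hq hq0)
  -- correction
  let Z := LinearMap.ker Φ
  let D' : X₀ →ₗ[R] Z := D.codRestrict Z fun w => LinearMap.mem_ker.mpr (hD w)
  let B := LinearMap.range D'
  have hT : ∀ t : Z ⧸ B, Tors I t := fun t a ha => by
    obtain ⟨y, rfl⟩ := Submodule.Quotient.mk_surjective _ t
    obtain ⟨k, w, hw⟩ := hH y.1 (LinearMap.mem_ker.mp y.2) a ha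
    refine ⟨k, ?_⟩
    rw [← Submodule.Quotient.mk_smul, Submodule.Quotient.mk_eq_zero]
    exact ⟨w, Subtype.ext (by rw [Submodule.coe_smul_of_tower]; exact hw)⟩
  have h0 : Φ.lTensor C (γ - 1 ⊗ₜ x₀) = 0 := by
    rw [map_sub, hγ, LinearMap.lTensor_tmul, hx₀, sub_self]
  obtain ⟨ζ, hζ⟩ := ((Module.Flat.lTensor_exact C (f := Z.subtype) (g := Φ) (LinearMap.exact_subtype_ker_map Φ)) _).mp h0
  obtain ⟨t, ht⟩ := h.tmul_surjective hT (B.mkQ.lTensor C ζ)
  obtain ⟨y, rfl⟩ := Submodule.Quotient.mk_surjective _ t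
  have h1 : B.mkQ.lTensor C (1 ⊗ₜ y - ζ) = 0 := by
    rw [map_sub, ht, LinearMap.lTensor_tmul, Submodule.mkQ_apply, sub_self]
  obtain ⟨w, hw⟩ := ((lTensor_exact C (f := D') (g := B.mkQ) (LinearMap.exact_map_mkQ_range D') B.mkQ_surjective) _).mp h1
  refine ⟨x₀ + y.1, w, ?_, ?_⟩
  · rw [map_add, hx₀, LinearMap.mem_ker.mp y.2, add_zero]
  · have h2 := congrArg (Z.subtype.lTensor C) hw
    rw [← LinearMap.lTensor_comp_apply, map_sub, hζ, LinearMap.lTensor_tmul] at h2
    rw [show D = Z.subtype.comp D' from rfl, h2, TensorProduct.tmul_add]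
    simp only [Submodule.subtype_apply]
    abel

end Groth.Agent.H24Adic.NilLift
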